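import Mathlib
import Cfsg.Agent.Base
import Cfsg.Agent.Lib.Fpf.P1b

/-! A solvable group acting faithfully on an elementary abelian 2-group: small involutions. -/

set_option autoImplicit false
set_option linter.unusedSectionVars false
set_option linter.style.haveILetI false

namespace H50.NS

open Subgroup H69 H68B Cfsg H42.FP H42.FP.P1b
open H42.FP.P1a (card_le_sq)
open scoped commutatorElement

/-- a solvable group `X` acting faithfully on an elementary abelian 2-group `V` -/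
structure M0 {G : Type*} [Group G] (V X : Subgroup G) : Prop where
  ea : IsElementaryAbelian 2 V
  nX : X ≤ 𝐍(V)
  sol : Group.IsSolvable X
  faith : X ⊓ 𝐂(V) = ⊥
  core : pCoreOf 2 X = ⊥

variable {G : Type*} [Group G] [Finite G] {V X D W : Subgroup G} {p : ℕ} {x y z : G}

theorem copz (h : M0 V X) {x : G} (ho : Odd (orderOf x)) :
    (Nat.card (zpowers x)).Coprime (Nat.card V) := by
  obtain ⟨n, hn⟩ := H24.EA.exists_card h.ea
  rw [hn, Nat.card_zpowers]
  exact Nat.Coprime.pow_right n (Nat.coprime_two_right.2 ho)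

theorem zn (h : M0 V X) {x : G} (hx : x ∈ X) : zpowers x ≤ 𝐍(V) :=
  (zpowers_le_of_mem hx).trans h.nX

theorem W_le (h : M0 V X) {x : G} (hx : x ∈ X) : ⁅V, zpowers x⁆ ≤ V :=
  commutator_le_left_of_le_normalizer (zn h hx)

theorem fpf (h : M0 V X) {x w : G} (hx : x ∈ X) (ho : Odd (orderOf x))
    (hw : w ∈ ⁅V, zpowers x⁆) (hc : Commute w x) : w = 1 := by
  rw [← mem_bot, ← H2.commutator_inf_centralizer_eq_bot h.ea.1 (zn h hx) (copz h ho),
    centralizer_zpowers]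
  exact ⟨hw, mem_centralizer_singleton_iff.2 hc⟩

theorem M0.card_W (h : M0 V X) {t x : G} (ht : t ∈ X) (t2 : t * t = 1)
    (t4 : Nat.card V ≤ 4 * Nat.card (V ⊓ centralizer {t} : Subgroup G)) (hx : x ∈ X)
    (ho : Odd (orderOf x)) (x1 : x ≠ 1) (hi : t * x * t⁻¹ = x⁻¹) :
    Nat.card (⁅V, zpowers x⁆ : Subgroup G) = 4 ∨
      Nat.card (⁅V, zpowers x⁆ : Subgroup G) = 16 ∧ V ⊓ centralizer {x} ≤ centralizer {t} := by
  have hz := zn h hx
  have hW := W_le h hx
  have xW : zpowers x ≤ 𝐍(⁅V, zpowers x⁆) := normalizer_commutator_ge_right _ _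
  have tz : zpowers t ≤ 𝐍(zpowers x) := zpowers_le_of_mem (by
    rw [← cj_eq_self_iff, cj_zpowers, hi, zpowers_inv])
  have tW : t ∈ 𝐍(⁅V, zpowers x⁆) :=
    H69.le_normalizer_commutator (zn h ht) tz (mem_zpowers t)
  have tC : t ∈ 𝐍(V ⊓ 𝐂(zpowers x)) :=
    H69.le_normalizer_inf (zn h ht) (H69.le_normalizer_centralizer tz) (mem_zpowers t)
  have e1 := H2.card_eq_card_centralizer_mul_card_commutator h.ea.1 hz (copz h ho)
  have e0 := H2.commutator_inf_centralizer_eq_bot h.ea.1 hz (copz h ho)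
  have dec := fun v hv => H2.exists_commutator_mul_centralizer hz (copz h ho)
    (.inl (H2.isSolvable_zpowers x)) (k := v) hv
  have hf := fun w hw => fpf h hx ho (w := w) hw
  rw [centralizer_zpowers] at tC e1 e0 dec
  generalize ⁅V, zpowers x⁆ = W at *
  have vn : ∀ {K L : Subgroup G}, K ≤ V → L ≤ V → K ≤ 𝐍(L) := fun hK hL =>
    le_normalizer_of_le_centralizer
      (hK.trans ((H24.EA.le_centralizer h.ea).trans (centralizer_anti hL)))
  -- the fixed points of `t` split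
  have e2 : Nat.card (V ⊓ centralizer {t} : Subgroup G) ≤
      Nat.card (W ⊓ centralizer {t} : Subgroup G) *
        Nat.card ((V ⊓ centralizer {x}) ⊓ centralizer {t} : Subgroup G) := by
    rw [← H2.card_sup_of_le_normalizer (vn (inf_le_left.trans inf_le_left) (inf_le_left.trans hW))
      (eq_bot_iff.2 fun g hg => e0.le ⟨hg.2.1, hg.1.1.2⟩)]
    refine card_le_of_le fun v hv => ?_
    obtain ⟨n, hn, c, hc, rfl⟩ := dec v hv.1
    have e : t * n * t⁻¹ * (t * c * t⁻¹) = n * c := by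
      calc _ = t * (n * c) * t⁻¹ := by group
        _ = _ := by rw [← mem_centralizer_singleton_iff.1 hv.2]; group
    have e' : n⁻¹ * (t * n * t⁻¹) = c * (t * c * t⁻¹)⁻¹ := by
      rw [eq_mul_inv_iff_mul_eq, mul_assoc, e]; group
    have e3 : n⁻¹ * (t * n * t⁻¹) = 1 := mem_bot.1 (e0.le
      ⟨W.mul_mem (W.inv_mem hn) (conj_mem_of_mem_normalizer tW hn),
        e' ▸ (Subgroup.mem_inf.1
          (mul_mem hc (inv_mem (conj_mem_of_mem_normalizer tC hc)))).2⟩)
    rw [e3, eq_comm, mul_inv_eq_one] at e'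
    rw [inv_mul_eq_one] at e3
    exact mul_mem_sup ⟨hn, mem_centralizer_singleton_iff.2 (eq_mul_inv_iff_mul_eq.1 e3)⟩
      ⟨hc, mem_centralizer_singleton_iff.2 (eq_mul_inv_iff_mul_eq.1 e')⟩
  -- `t x` is conjugate to `t`
  obtain ⟨m, hm⟩ := ho
  have e4 : x ^ m * t * (x ^ m)⁻¹ = t * x := by
    have a1 : t * (x ^ m)⁻¹ * t⁻¹ = x ^ m := by
      rw [← inv_pow, ← conj_pow, ← conj_inv, hi, inv_inv]
    have a2 : x ^ m * t = t * (x ^ m)⁻¹ := by
      rw [eq_comm, ← mul_inv_eq_iff_eq_mul, a1]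
    have a3 : x ^ m * x ^ m * x = 1 := by
      rw [← pow_add, ← pow_succ, ← two_mul, ← hm, pow_orderOf_eq_one]
    rw [a2, mul_assoc, ← mul_inv_rev, inv_eq_of_mul_eq_one_right a3]
  have e5 : Nat.card (W ⊓ centralizer {t} : Subgroup G) *
      Nat.card (W ⊓ centralizer {t} : Subgroup G) ≤ Nat.card W := by
    have a1 : Nat.card (W ⊓ centralizer {t * x} : Subgroup G) =
        Nat.card (W ⊓ centralizer {t} : Subgroup G) := by
      rw [← card_cj (W ⊓ centralizer {t}) (x ^ m), cj_inf, cj_centralizer_singleton, e4,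
        cj_eq_of_mem_normalizer (xW (pow_mem (mem_zpowers x) m))]
    nth_rw 1 [← a1]
    rw [← H2.card_sup_of_le_normalizer (vn (inf_le_left.trans hW) (inf_le_left.trans hW))
      (eq_bot_iff.2 fun g hg => mem_bot.2 (hf g hg.1.1 ?_))]
    · exact card_le_of_le (sup_le inf_le_left inf_le_left)
    · have b1 : Commute g t := mem_centralizer_singleton_iff.1 hg.1.2
      have b2 : Commute g (t * x) := mem_centralizer_singleton_iff.1 hg.2.2
      simpa using b1.inv_right.mul_right b2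
  have e6 := card_le_sq (H24.EA.mono h.ea hW) tW t2
  have e7 : Nat.card ((V ⊓ centralizer {x}) ⊓ centralizer {t} : Subgroup G) ≤
      Nat.card (V ⊓ centralizer {x} : Subgroup G) := card_le_of_le inf_le_left
  have e8 : Nat.card W ≠ 1 := fun e => x1 (mem_bot.1 (h.faith.le ⟨hx, fun v hv => by
    obtain ⟨n, hn, c, hc, rfl⟩ := dec v hv
    rw [mem_bot.1 ((card_eq_one.1 e).le hn), one_mul]
    exact mem_centralizer_singleton_iff.1 hc.2⟩))
  obtain ⟨k, hk⟩ := H24.EA.exists_card (H24.EA.mono h.ea (inf_le_left.trans hW :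
    W ⊓ centralizer {t} ≤ V))
  have p1 : 0 < Nat.card (V ⊓ centralizer {x} : Subgroup G) := Nat.card_pos
  have e9 : Nat.card W = 2 ^ k * 2 ^ k := by rw [← hk]; exact le_antisymm e6 e5
  rw [hk] at e2
  rw [e1, e9] at t4
  have e10 : 2 ^ k * Nat.card (V ⊓ centralizer {x} : Subgroup G) ≤
      4 * Nat.card ((V ⊓ centralizer {x}) ⊓ centralizer {t} : Subgroup G) :=
    Nat.le_of_mul_le_mul_left (c := 2 ^ k) (by nlinarith) (by positivity)
  have e11 : k ≤ 2 := by
    by_contra hc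
    have : 2 ^ 3 ≤ 2 ^ k := Nat.pow_le_pow_right (by omega) (by omega)
    nlinarith
  interval_cases k
  · exact absurd e9 e8
  · exact .inl e9
  · refine .inr ⟨e9, ?_⟩
    rw [← eq_of_le_of_card_ge (inf_le_left : (V ⊓ centralizer {x}) ⊓ centralizer {t} ≤ _)
      (by omega)]
    exact inf_le_right

theorem st' (hV : IsElementaryAbelian 2 V) (hp : p.Prime) (p2 : p ≠ 2) (hD : D ≤ 𝐍(V))
    (he : ∀ d ∈ D, d ^ p = 1) (c : Cl D) (hx : x ∈ D) (hy : y ∈ D) (hz : ⁅x, y⁆ = z)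
    (hW : ⁅V, zpowers z⁆ = W) (W1 : W ≠ ⊥)
    (h16 : Nat.card (⁅V, zpowers x⁆ : Subgroup G) ≤ 16) :
    ⁅V, zpowers x⁆ ≤ W ∧ Nat.card (⁅V, zpowers x⁆ : Subgroup G) = 16 ∧
      ∀ d ∈ 𝐍(W), Commute d x → Commute d y → ∃ g ∈ zpowers z, g⁻¹ * d ∈ 𝐂(W) := by
  have od : ∀ d ∈ D, Odd (orderOf d) := fun d hd =>
    (hp.odd_of_ne_two p2).of_dvd_nat (orderOf_dvd_of_pow_eq_one (he d hd))
  have zD : z ∈ D := hz ▸ cm_mem hx hy
  have zc : ∀ d ∈ D, ∀ g ∈ zpowers z, Commute d g := fun d hd g hg =>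
    cz (hz ▸ (c x hx y hy d hd).symm) hg
  have z1 : z ≠ 1 := by rintro rfl; exact W1 (by rw [← hW]; simp)
  have WV : W ≤ V := hW ▸ commutator_le_left_of_le_normalizer (zpowers_le.2 (hD zD))
  have nW : D ≤ 𝐍(W) := hW ▸ le_normalizer_commutator hD (le_normalizer_of_le_centralizer
    fun d hd g hg => (zc d hd g hg).symm)
  have fp : ∀ w ∈ W, ∀ g ∈ zpowers z, g ≠ 1 → Commute w g → w = 1 := fun w hw g hg g1 h => by
    rw [← mem_bot, ← H2.commutator_inf_centralizer_eq_bot hV.1 (zpowers_le.2 (hD zD))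
      (cop hV (od z zD) le_rfl), hW, centralizer_zpowers]
    exact ⟨hw, mem_cs.2 (cz h (pz hp (he z zD) hg g1))⟩
  -- a nontrivial fixed point of `x`
  obtain ⟨w, hw, w1⟩ : ∃ w ∈ W ⊓ centralizer {x}, w ≠ 1 := by
    have xz : zpowers x ≤ 𝐂(zpowers z) := zpowers_le.2 fun g hg => (zc x hx g hg).symm
    have ED : zpowers x ⊔ zpowers z ≤ D := sup_le (zpowers_le.2 hx) (zpowers_le.2 zD)
    have ea := H24.EA.sup (H24.EA.zpowers (he x hx)) (H24.EA.zpowers (he z zD)) xz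
    haveI := Fact.mk hp
    obtain ⟨a, ha, a1, h⟩ := H2.exists_inf_centralizer_ne_bot (K := W) ea.1 (fun hc => by
        obtain ⟨g, hg⟩ := hc.exists_generator
        obtain ⟨i, hi⟩ := hg ⟨x, mem_sup_left (mem_zpowers x)⟩
        obtain ⟨j, hj⟩ := hg ⟨z, mem_sup_right (mem_zpowers z)⟩
        have := pz hp (he _ (ED g.2)) ⟨j, congrArg Subtype.val hj⟩ z1
        exact z1 (hz ▸ commutatorElement_eq_one_iff_commute.2
          (cz (zc y hy g this) ⟨i, congrArg Subtype.val hi⟩).symm)) (ED.trans nW)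
      (IsPGroup.coprime_card_of_ne p 2 p2 _ _ (H24.EA.isPGroup ea)
        (H24.EA.isPGroup (H24.EA.mono hV WV))) W1
    obtain ⟨w, hw, w1⟩ := (bot_or_exists_ne_one _).resolve_left h
    obtain ⟨u, hu, g, hg, rfl⟩ := (mem_sup_of_le_normalizer_right
      (le_normalizer_of_le_centralizer xz)).1 ha
    have u1 : u ≠ 1 := by
      rintro rfl
      exact w1 (fp w hw.1 g hg (by simpa using a1) (by simpa using mem_cs.1 hw.2))
    have uD : u ∈ D := zpowers_le.2 hx hu
    have ux := pz hp (he x hx) hu u1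
    have m : ⁅y, u⁆ ∈ zpowers z := by
      obtain ⟨i, rfl⟩ := hu
      rw [← commutatorElement_inv]
      exact inv_mem ⟨i, by rw [cm_zpow (c x hx y hy x hx), hz]⟩
    obtain ⟨k, hk⟩ := zpowers_le.2 (pz hp (he z zD) m fun e => z1 (hz ▸
      commutatorElement_eq_one_iff_commute.2
        (cz (commutatorElement_eq_one_iff_commute.1 e) ux).symm)) hg
    have e : u = (y ^ k)⁻¹ * (u * g) * (y ^ k)⁻¹⁻¹ := by
      rw [(zc u uD g hg).eq, ← hk]
      change u = (y ^ k)⁻¹ * (⁅y, u⁆ ^ k * u) * _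
      rw [← cm_zpow (c y hy u uD y hy), commutatorElement_def]; group
    refine ⟨(y ^ k)⁻¹ * w * (y ^ k)⁻¹⁻¹, ⟨conj_mem_of_mem_normalizer
      (nW (inv_mem (zpow_mem hy k))) hw.1, mem_cs.2 (cz ?_ ux)⟩,
      fun e => w1 (conj_eq_one_iff.1 e)⟩
    rw [e]
    exact (mem_cs.1 hw.2).map (MulAut.conj (y ^ k)⁻¹)
  set C := W ⊓ centralizer {x} with hC
  have nC : ∀ d ∈ D, ⁅x, d⁆ ∈ 𝐂(W) → d ∈ 𝐍(C) := fun d hd h => nI (nW hd) h
  have one : ∀ {a b : G}, Commute a b → ⁅a, b⁆ ∈ 𝐂(W) := fun h => by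
    rw [commutatorElement_eq_one_iff_commute.2 h]; exact one_mem _
  have Cn : ∀ n : ℤ, C ^ᶜ y ^ n = W ⊓ centralizer {z ^ (-n) * x} := fun n => by
    rw [hC, cj_inf, cj_eq_of_mem_normalizer (nW (zpow_mem hy n)), cj_centralizer_singleton,
      ← hz, zpow_neg, ← inv_zpow ⁅x, y⁆, commutatorElement_inv, ← cm_zpow (c y hy x hx y hy),
      commutatorElement_def, inv_mul_cancel_right]
  have CW : ∀ n : ℤ, C ^ᶜ y ^ n ≤ W := fun n => Cn n ▸ inf_le_left
  have Cx : ∀ n : ℤ, z ^ (-n) ≠ 1 → C ^ᶜ y ^ n ≤ ⁅V, zpowers x⁆ := fun n hn =>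
    le_W hV (od x hx) ((CW n).trans WV)
      (Cn n ▸ nI (nW hx) (one ((zc x hx _ ⟨_, rfl⟩).symm.mul_left (Commute.refl x))))
      fun v hv h => by
        rw [Cn] at hv
        exact fp v hv.1 _ ⟨_, rfl⟩ hn (by simpa using (mem_cs.1 hv.2).mul_right h.inv_right)
  have le12 : C ^ᶜ y ^ (1 : ℤ) ⊔ C ^ᶜ y ^ (2 : ℤ) ≤ ⁅V, zpowers x⁆ :=
    sup_le (Cx 1 (by simpa using z1)) (Cx 2 fun e => z1 (by
      have e2 : z ^ 2 = 1 := by rw [zpow_neg, inv_eq_one] at e; exact_mod_cast e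
      exact orderOf_eq_one_iff.1 ((Nat.coprime_two_right.2 (od z zD)).eq_one_of_dvd
        (orderOf_dvd_of_pow_eq_one e2))))
  have c12 : Nat.card (C ^ᶜ y ^ (1 : ℤ) ⊔ C ^ᶜ y ^ (2 : ℤ) : Subgroup G) =
      Nat.card C * Nat.card C := by
    rw [H2.card_sup_of_le_normalizer (le_normalizer_of_le_centralizer fun a ha b hb =>
      H24.isMulCommutative_iff_mem.1 hV.1 b (WV (CW _ hb)) a (WV (CW _ ha))), card_cj, card_cj]
    refine (eq_bot_iff_forall _).2 fun v hv => ?_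
    rw [Cn, Cn] at hv
    refine fp v hv.1.1 z (mem_zpowers z) z1 ?_
    have := (mem_cs.1 hv.2.2).mul_right (mem_cs.1 hv.1.2).inv_right
    rwa [show z ^ (-1 : ℤ) * x * (z ^ (-2 : ℤ) * x)⁻¹ = z by group] at this
  let F : Option (zpowers z) → C := fun o => o.elim 1 fun g =>
    ⟨g * w * g⁻¹, conj_mem_of_mem_normalizer
      (nC g (zpowers_le.2 zD g.2) (one (zc x hx g g.2))) hw⟩
  have Fi : Function.Injective F := by
    rintro (_ | g) (_ | g') e
    · rfl
    · exact absurd (congrArg Subtype.val e).symm (by simpa [F] using w1)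
    · exact absurd (congrArg Subtype.val e) (by simpa [F] using w1)
    · have e' : (g : G) * w * (g : G)⁻¹ = g' * w * (g' : G)⁻¹ := congrArg Subtype.val e
      by_contra hn
      refine w1 (fp w hw.1 _ (g'⁻¹ * g).2 (fun e => hn ?_) ?_)
      · rw [inv_mul_eq_one.1 (Subtype.ext e : g'⁻¹ * g = 1)]
      · change w * ((g' : G)⁻¹ * g) = (g' : G)⁻¹ * g * w
        rw [mul_assoc, mul_inv_eq_iff_eq_mul.1 e']; group
  have cF : Nat.card (Option (zpowers z)) = p + 1 := by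
    haveI := Fact.mk hp
    rw [Finite.card_option, Nat.card_zpowers, orderOf_eq_prime (he z zD) z1]
  have l1 := cF ▸ Nat.card_le_card_of_injective F Fi
  have l2 := c12 ▸ (card_le_of_le le12).trans h16
  have l3 : Nat.card C ≤ 4 := by nlinarith
  have p3 : p = 3 := by have := hp.two_le; omega
  have c4 : Nat.card C = 4 := by omega
  have e12 := eq_of_le_of_card_ge le12 (by rw [c12, c4]; exact h16)
  refine ⟨e12.ge.trans (sup_le (CW 1) (CW 2)), by rw [← e12, c12, c4], fun d hd h1 h2 => ?_⟩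
  have dz : ∀ g ∈ zpowers z, Commute d g := fun g hg =>
    cz (hz ▸ ((h1.mul_right h2).mul_right h1.inv_right).mul_right h2.inv_right) hg
  have Fs := (Fi.bijective_of_nat_card_le (by omega)).2
  have en : ∀ v ∈ C, v = 1 ∨ ∃ g ∈ zpowers z, v = g * w * g⁻¹ := fun v hv => by
    obtain ⟨_ | g, e⟩ := Fs ⟨v, hv⟩
    exacts [.inl (congrArg Subtype.val e).symm, .inr ⟨g, g.2, (congrArg Subtype.val e).symm⟩]
  obtain ⟨g, hg, e⟩ := (en _ (conj_mem_of_mem_normalizer (nI hd (one h1.symm)) hw)).resolve_left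
    (by simpa using w1)
  have gD := inv_mem (zpowers_le.2 zD hg)
  have C0 : C ≤ W ⊓ centralizer {g⁻¹ * d} := fun v hv => by
    rcases en v hv with rfl | ⟨g', hg', rfl⟩
    · exact one_mem _
    refine conj_mem_of_mem_normalizer (nI (nW (zpowers_le.2 zD hg'))
      (one ((zc _ gD _ hg').mul_left (dz _ hg')))) ⟨hw.1, mem_cs.2 ?_⟩
    change w * (g⁻¹ * d) = g⁻¹ * d * w
    rw [mul_assoc, mul_inv_eq_iff_eq_mul.1 e]; group
  have ny : y ∈ 𝐍(W ⊓ centralizer {g⁻¹ * d}) :=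
    nI (nW hy) (one ((zc y hy _ (inv_mem hg)).symm.mul_left h2))
  have : W ≤ W ⊓ centralizer {g⁻¹ * d} := by
    refine (H2.commutator_sup_centralizer (zpowers_le.2 (nW hx)) (cop hV (od x hx) WV)
      (.inl (H2.isSolvable_zpowers x))).ge.trans (sup_le ?_ (centralizer_zpowers x ▸ C0))
    refine (commutator_mono WV le_rfl).trans (e12.ge.trans (sup_le ?_ ?_)) <;>
      exact cj_le_of_mem_normalizer C0 (zpow_mem ny _)
  exact ⟨g, hg, fun v hv => mem_cs.1 (this hv).2⟩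

end H50.NS
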