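import Mathlib
import Cfsg.Agent.Base
import Cfsg.Agent.Lib.Nsp.A

/-! Operators without invariant classes of sections of order two: abelian normal subgroups. -/

set_option autoImplicit false
set_option linter.unusedSectionVars false
set_option linter.style.haveILetI false

namespace H50.NS

open Subgroup H69 H68B Cfsg H42.FP H42.FP.P1b
open H42.FP.P1a (fix_nc pow_nc)
open scoped commutatorElement

/-- operators `A` on the module `V` for `X` -/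
structure M1 {G : Type*} [Group G] (V X A : Subgroup G) : Prop extends M0 V X where
  nV : A ≤ 𝐍(V)
  nA : A ≤ 𝐍(X)
  n1 : ∀ v ∈ V, (∀ a ∈ A, ∃ g ∈ X, g * a * v * (g * a)⁻¹ = v) → v = 1
  n2 : ∀ L ≤ X, ∀ x ∈ X, x ∈ 𝐍(L) → x * x ∈ L →
    (∀ a ∈ A, ∃ g ∈ X, g * a ∈ 𝐍(L) ∧ x⁻¹ * (g * a * x * (g * a)⁻¹) ∈ L) → x ∈ L

variable {G : Type*} [Group G] [Finite G] {V X A Z : Subgroup G} {p : ℕ}

theorem tup {ι : Type*} [Finite ι] (X : Subgroup G) (S : ι → Set G)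
    (h : ∀ i, ∀ s ∈ S i, ∀ s' ∈ S i, ∃ g ∈ X, g * s * g⁻¹ = s' ∧ ∀ j ≠ i, ∀ r ∈ S j, g * r * g⁻¹ = r)
    {s s' : ι → G} (hs : ∀ i, s i ∈ S i) (hs' : ∀ i, s' i ∈ S i) :
    ∃ g ∈ X, ∀ i, g * s i * g⁻¹ = s' i := by
  classical
  have := Fintype.ofFinite ι
  suffices k : ∀ J : Finset ι, ∃ g ∈ X, (∀ i ∈ J, g * s i * g⁻¹ = s' i) ∧
      ∀ i ∉ J, ∀ r ∈ S i, g * r * g⁻¹ = r by
    obtain ⟨g, h1, h2, -⟩ := k Finset.univ
    exact ⟨g, h1, fun i => h2 i (Finset.mem_univ i)⟩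
  intro J
  induction J using Finset.induction_on with
  | empty => exact ⟨1, one_mem _, by simp, by simp⟩
  | insert j J hj ih =>
    obtain ⟨g, h1, h2, h3⟩ := ih
    obtain ⟨k, k1, k2, k3⟩ := h j _ (hs j) _ (hs' j)
    have e : ∀ r, k * g * r * (k * g)⁻¹ = k * (g * r * g⁻¹) * k⁻¹ := fun r => by group
    refine ⟨k * g, mul_mem k1 h1, fun i hi => ?_, fun i hi r hr => ?_⟩
    · rcases Finset.mem_insert.1 hi with rfl | hi
      · rw [e, h3 _ hj _ (hs _), k2]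
      · rw [e, h2 i hi, k3 i (fun e => hj (e ▸ hi)) _ (hs' i)]
    · rw [Finset.mem_insert, not_or] at hi
      rw [e, h3 i hi.2 r hr, k3 i hi.1 r hr]

theorem comm_of_sq {w x : G} (ho : Odd (orderOf x)) (h : Commute w (x ^ 2)) : Commute w x := by
  obtain ⟨c, hc⟩ := exists_pow_eq_self_of_coprime (x := x) (n := 2) (Nat.coprime_two_left.2 ho)
  exact hc ▸ h.pow_right c

theorem trans_four {W : Subgroup G} (hW : Nat.card W = 4) {x : G} (hx : x ∈ 𝐍(W)) (ho : Odd (orderOf x))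
    (hf : ∀ w ∈ W, Commute w x → w = 1) {s s' : G} (hs : s ∈ W) (s1 : s ≠ 1) (hs' : s' ∈ W) (s1' : s' ≠ 1) :
    ∃ k : ℕ, x ^ k * s * (x ^ k)⁻¹ = s' := by
  by_contra! hne
  have m : ∀ k : ℕ, x ^ k * s * (x ^ k)⁻¹ ∈ W := fun k => conj_mem_of_mem_normalizer (pow_mem hx k) hs
  have n1 : ∀ k : ℕ, x ^ k * s * (x ^ k)⁻¹ ≠ 1 := fun k => by simpa using s1
  have n2 : x ^ 0 * s * (x ^ 0)⁻¹ ≠ x ^ 1 * s * (x ^ 1)⁻¹ := fun e => s1 (hf s hs (by
    rw [pow_zero, inv_one, one_mul, mul_one, pow_one, eq_mul_inv_iff_mul_eq] at e; exact e))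
  have n3 : x ^ 0 * s * (x ^ 0)⁻¹ ≠ x ^ 2 * s * (x ^ 2)⁻¹ := fun e => s1 (hf s hs (comm_of_sq ho (by
    rw [pow_zero, inv_one, one_mul, mul_one, eq_mul_inv_iff_mul_eq] at e; exact e)))
  have n4 : x ^ 1 * s * (x ^ 1)⁻¹ ≠ x ^ 2 * s * (x ^ 2)⁻¹ := fun e => n2 (by
    calc _ = x⁻¹ * (x ^ 1 * s * (x ^ 1)⁻¹) * x := by group
      _ = x⁻¹ * (x ^ 2 * s * (x ^ 2)⁻¹) * x := congrArg (fun u => x⁻¹ * u * x) e
      _ = _ := by group)
  let F : Fin 5 → W := ![1, ⟨s', hs'⟩, ⟨_, m 0⟩, ⟨_, m 1⟩, ⟨_, m 2⟩]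
  have Fi : Function.Injective F := by
    intro i j e
    replace e := congrArg Subtype.val e
    fin_cases i <;> fin_cases j <;>
      first | rfl | exact absurd e.symm s1' | exact absurd e s1' | exact absurd e.symm (n1 _) | exact absurd e (n1 _)
            | exact absurd e.symm (hne _) | exact absurd e (hne _) | exact absurd e n2 | exact absurd e.symm n2
            | exact absurd e n3 | exact absurd e.symm n3 | exact absurd e n4 | exact absurd e.symm n4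
  have := Nat.card_le_card_of_injective F Fi
  simp [hW] at this

theorem M1.no_four (h : M1 V X A) (hZ : Z ≤ X) (hc : Z ≤ 𝐂(Z)) (ho : ∀ d ∈ Z, Odd (orderOf d)) (hA : A ≤ 𝐍(Z))
    {x : G} (hx : x ∈ Z) : Nat.card (⁅V, zpowers x⁆ : Subgroup G) ≠ 4 := fun h4 => by
  classical
  let ι := {W : Subgroup G // (∃ y ∈ Z, ⁅V, zpowers y⁆ = W) ∧ Nat.card W = 4}
  have := Fintype.ofFinite ι
  choose y hy e using fun i : ι => i.2.1
  have WV : ∀ i : ι, i.1 ≤ V := fun i => e i ▸ W_le h.toM0 (hZ (hy i))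
  have nW : ∀ i : ι, ∀ d ∈ Z, d ∈ 𝐍(i.1) := fun i d hd => e i ▸ le_normalizer_commutator (hZ.trans h.nX)
    (le_normalizer_of_le_centralizer fun c hc' g hg => (cz (hc hc' _ (hy i)).symm hg).symm) hd
  have fp : ∀ i : ι, ∀ w ∈ i.1, Commute w (y i) → w = 1 := fun i w hw =>
    fpf h.toM0 (hZ (hy i)) (ho _ (hy i)) (e i ▸ hw)
  have ind : ∀ i j : ι, j ≠ i → ∀ r ∈ j.1, Commute r (y i) := fun i j hne r hr => by
    by_contra hn
    refine hne (Subtype.ext (eq_of_le_of_card_ge (e i ▸ le_W h.ea (ho _ (hy i)) (WV j) (nW j _ (hy i))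
      fun w hw hwc => ?_) (by rw [i.2.2, j.2.2])))
    by_contra w1
    obtain ⟨k, rfl⟩ := trans_four j.2.2 (nW j _ (hy j)) (ho _ (hy j)) (fp j) hw w1 hr
      (fun e => hn (e ▸ Commute.one_left _))
    have c : Commute (y j ^ k) (y i) := Commute.pow_left (hc (hy i) _ (hy j)) k
    exact hn ((c.mul_left hwc).mul_left c.inv_left)
  choose s hs s1 using fun i : ι => (bot_or_exists_ne_one i.1).resolve_left fun e' => by
    have := i.2.2
    rw [e', card_bot] at this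
    omega
  have cm : ((Finset.univ : Finset ι) : Set ι).Pairwise (Function.onFun Commute s) := fun i _ j _ _ =>
    H24.EA.comm h.ea (WV i (hs i)) (WV j (hs j))
  have h1 := h.n1 (Finset.univ.noncommProd s cm) (V.noncommProd_mem _ fun i _ => WV i (hs i)) fun a ha => by
    let τ : ι → ι := fun i => ⟨i.1 ^ᶜ a⁻¹, ⟨a⁻¹ * y i * a⁻¹⁻¹, conj_mem_of_mem_normalizer (hA (inv_mem ha)) (hy i), by
      rw [← e i, cj_commutator, cj_eq_of_mem_normalizer (h.nV (inv_mem ha)), cj_zpowers]⟩, by rw [card_cj, i.2.2]⟩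
    obtain ⟨g, hg, k⟩ := tup X (fun i : ι => {w | w ∈ i.1 ∧ w ≠ 1}) (fun i r hr r' hr' => by
        obtain ⟨k, hk⟩ := trans_four i.2.2 (nW i _ (hy i)) (ho _ (hy i)) (fp i) hr.1 hr.2 hr'.1 hr'.2
        exact ⟨_, pow_mem (hZ (hy i)) k, hk, fun j hj r hr => by
          rw [← ((ind i j hj r hr.1).pow_right k).eq, mul_inv_cancel_right]⟩)
      (s := fun i => a * s (τ i) * a⁻¹) (s' := s)
      (fun i => ⟨by simpa using mem_cj.1 (hs (τ i)), by simpa using s1 (τ i)⟩) fun i => ⟨hs i, s1 i⟩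
    refine ⟨g, hg, ?_⟩
    have := fix_nc Finset.univ s cm (g * a)⁻¹ τ
      (fun i j e => Subtype.ext (by
        have : (i.1 ^ᶜ a⁻¹) ^ᶜ a = (j.1 ^ᶜ a⁻¹) ^ᶜ a := congrArg (fun K : ι => K.1 ^ᶜ a) e
        rwa [cj_inv_cj, cj_inv_cj] at this))
      (fun i _ => Finset.mem_univ _) fun i => by rw [← k i]; group
    rw [mul_assoc, ← this, mul_inv_cancel_left]
  let i : ι := ⟨_, ⟨x, hx, rfl⟩, h4⟩
  rw [← Finset.mul_noncommProd_erase _ (Finset.mem_univ i), mul_eq_one_iff_eq_inv] at h1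
  refine s1 i (fp i _ (hs i) ?_)
  rw [h1]
  exact (Finset.noncommProd_commute _ _ _ _ fun j hj =>
    (ind i j (Finset.ne_of_mem_erase hj) _ (hs j)).symm).symm.inv_left

theorem M1.hom (h : M1 V X A) {N : Subgroup G} (hX : X ≤ N) (hA : A ≤ N) {C : Type*} [CommGroup C] (ρ : N →* C)
    {t : G} (ht : t ∈ X) (t2 : t * t = 1) : ρ ⟨t, hX ht⟩ = 1 := by
  have nL : ∀ g ∈ N, g ∈ 𝐍(X) → g ∈ 𝐍(X ⊓ ρ.ker.map N.subtype) := fun g hg hg' =>
    H24.mem_normalizer_of_conj_mem fun l hl => by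
      obtain ⟨h1, l, h2, rfl⟩ := hl
      exact ⟨conj_mem_of_mem_normalizer hg' h1, _, ρ.normal_ker.conj_mem l h2 ⟨g, hg⟩, rfl⟩
  obtain ⟨-, u, hu, e⟩ := h.n2 _ inf_le_left t ht (nL t (hX ht) (le_normalizer ht)) (t2 ▸ one_mem _) fun a ha =>
    ⟨1, one_mem _, by rw [one_mul]; exact nL a (hA ha) (h.nA ha), by
      rw [one_mul]
      refine ⟨X.mul_mem (inv_mem ht) (conj_mem_of_mem_normalizer (h.nA ha) ht),
        ⟨t, hX ht⟩⁻¹ * (⟨a, hA ha⟩ * ⟨t, hX ht⟩ * ⟨a, hA ha⟩⁻¹), ?_, rfl⟩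
      rw [SetLike.mem_coe, MonoidHom.mem_ker, map_mul, map_mul, map_mul, map_inv, map_inv, mul_inv_cancel_comm,
        inv_mul_cancel]⟩
  obtain rfl : u = ⟨t, hX ht⟩ := Subtype.ext e
  exact hu

/-- the determinant of a reflection -/
theorem exists_det' {E N : Type*} [AddCommGroup E] [Finite E] [Group N] [Fact p.Prime] [Module (ZMod p) E]
    (f : N →* MulAut (Multiplicative E)) :
    ∃ ρ : N →* (ZMod p)ˣ, ∀ (t : N) (x : Multiplicative E), x ≠ 1 → f t x = x⁻¹ →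
      (∀ d, d⁻¹ * f t d ∈ zpowers x) → (ρ t : ZMod p) = -1 := by
  let F : N →* Module.End (ZMod p) E :=
    { toFun := fun g => (AddMonoidHom.toMultiplicative.symm (f g).toMonoidHom).toZModLinearMap p
      map_one' := by rw [map_one]; rfl
      map_mul' := fun a b => by rw [map_mul]; rfl }
  refine ⟨(LinearMap.det.comp F).toHomUnits, fun t x x1 hi hr => ?_⟩
  obtain ⟨μ, hμ⟩ : ∃ μ : Module.Dual (ZMod p) E, μ x.toAdd = 1 := Module.Projective.exists_dual_eq_one (ZMod p) x1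
  have e : F t = LinearMap.transvection (μ ∘ₗ (F t - 1)) x.toAdd := by
    refine LinearMap.ext fun d => ?_
    obtain ⟨k, hk⟩ := hr (Multiplicative.ofAdd d)
    have e1 : F t d = d + k • x.toAdd := (inv_mul_eq_iff_eq_mul.1 hk.symm :)
    simp [LinearMap.transvection, e1, hμ, Int.cast_smul_eq_zsmul]
  have e2 : F t x.toAdd = -x.toAdd := hi
  change LinearMap.det (F t) = -1
  rw [e, LinearMap.transvection.det]
  simp [e2, hμ]

theorem exists_det [Fact p.Prime] (hc : Z ≤ 𝐂(Z)) (he : ∀ d ∈ Z, d ^ p = 1) :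
    ∃ ρ : 𝐍(Z) →* (ZMod p)ˣ, ∀ (t : 𝐍(Z)), ∀ x ∈ Z, x ≠ 1 → (t : G) * x * (t : G)⁻¹ = x⁻¹ →
      (∀ d ∈ Z, d⁻¹ * (t * d * (t : G)⁻¹) ∈ zpowers x) → (ρ t : ZMod p) = -1 := by
  letI : CommGroup Z := { (inferInstance : Group Z) with mul_comm := fun a b => Subtype.ext (hc b.2 a a.2) }
  letI : Module (ZMod p) (Additive Z) := AddCommGroup.zmodModule fun d =>
    show d.toMul ^ p = 1 from Subtype.ext (he _ d.toMul.2)
  obtain ⟨ρ, hρ⟩ := exists_det' (p := p) (E := Additive Z) Z.normalizerMonoidHom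
  refine ⟨ρ, fun t x hx x1 hi hr => hρ t (⟨x, hx⟩ : Z) (fun e => x1 (congrArg Subtype.val e)) (Subtype.ext hi)
    fun d => ?_⟩
  obtain ⟨k, hk⟩ := hr _ d.2
  exact ⟨k, Subtype.ext hk⟩

theorem M1.caseA (h : M1 V X A) (hp : p.Prime) (p2 : p ≠ 2) (hZ : Z ≤ X) (hX : X ≤ 𝐍(Z)) (hA : A ≤ 𝐍(Z))
    (he : ∀ d ∈ Z, d ^ p = 1) (hc : Z ≤ 𝐂(Z)) {t : G} (ht : t ∈ X) (t2 : t * t = 1)
    (t4 : Nat.card V ≤ 4 * Nat.card (V ⊓ centralizer {t} : Subgroup G)) : t ∈ 𝐂(Z) := by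
  haveI := Fact.mk hp
  have od : ∀ d ∈ Z, Odd (orderOf d) := fun d hd =>
    (hp.odd_of_ne_two p2).of_dvd_nat (orderOf_dvd_of_pow_eq_one (he d hd))
  have ti : t⁻¹ = t := inv_eq_of_mul_eq_one_right t2
  have m : ∀ d ∈ Z, d⁻¹ * (t * d * t⁻¹) ∈ Z := fun d hd =>
    mul_mem (inv_mem hd) (conj_mem_of_mem_normalizer (hX ht) hd)
  have iv : ∀ d : G, t * (d⁻¹ * (t * d * t⁻¹)) * t⁻¹ = (d⁻¹ * (t * d * t⁻¹))⁻¹ := fun d => by
    calc _ = t * d⁻¹ * (t * t⁻¹) * (t * d) * (t⁻¹ * t⁻¹) := by group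
      _ = _ := by rw [ti, t2]; simp [mul_assoc, ti, ← mul_assoc t t, t2]
  intro d₀ hd₀
  by_contra hn
  have x1 : d₀⁻¹ * (t * d₀ * t⁻¹) ≠ 1 := fun e => hn (by
    rw [inv_mul_eq_one, eq_mul_inv_iff_mul_eq] at e; exact e)
  have hx := m d₀ hd₀
  have hi := iv d₀
  generalize d₀⁻¹ * (t * d₀ * t⁻¹) = x at x1 hx hi
  obtain ⟨ρ, hρ⟩ := exists_det hc he
  have h1 := hρ ⟨t, hX ht⟩ x hx x1 hi fun d hd => by
    have hy := m d hd
    have hj := iv d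
    generalize d⁻¹ * (t * d * t⁻¹) = y at hy hj
    have EZ : zpowers y ⊔ zpowers x ≤ Z := sup_le (zpowers_le.2 hy) (zpowers_le.2 hx)
    have ea := H24.EA.sup (H24.EA.zpowers (he y hy)) (H24.EA.zpowers (he x hx))
      ((zpowers_le.2 hy).trans (hc.trans (centralizer_anti (zpowers_le.2 hx))))
    by_cases hcy : IsCyclic (zpowers y ⊔ zpowers x : Subgroup G)
    · obtain ⟨g, hg⟩ := hcy.exists_generator
      obtain ⟨i, hi⟩ := hg ⟨y, mem_sup_left (mem_zpowers y)⟩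
      obtain ⟨j, hj⟩ := hg ⟨x, mem_sup_right (mem_zpowers x)⟩
      exact zpowers_le.2 (pz hp (he _ (EZ g.2)) ⟨j, congrArg Subtype.val hj⟩ x1) ⟨i, congrArg Subtype.val hi⟩
    exfalso
    have WV := W_le h.toM0 (hZ hx)
    obtain ⟨a, ha, a1, k⟩ := H2.exists_inf_centralizer_ne_bot (K := ⁅V, zpowers x⁆) ea.1 hcy
      (EZ.trans (le_normalizer_commutator (hZ.trans h.nX) (le_normalizer_of_le_centralizer
        (hc.trans (centralizer_anti (zpowers_le.2 hx))))))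
      (IsPGroup.coprime_card_of_ne p 2 p2 _ _ (H24.EA.isPGroup ea) (H24.EA.isPGroup (H24.EA.mono h.ea WV)))
      fun e => x1 (mem_bot.1 (h.faith.le ⟨hZ hx, fun v hv =>
        (le_centralizer_of_commutator_eq_bot e hv x (mem_zpowers x)).symm⟩))
    obtain ⟨w, hw, w1⟩ := (bot_or_exists_ne_one _).resolve_left k
    have ai : t * a * t⁻¹ = a⁻¹ := by
      obtain ⟨_, ⟨i, rfl⟩, _, ⟨j, rfl⟩, rfl⟩ := (mem_sup_of_le_normalizer_right (le_normalizer_of_le_centralizer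
        ((zpowers_le.2 hy).trans (hc.trans (centralizer_anti (zpowers_le.2 hx)))))).1 ha
      rw [← conj_mul, ← conj_zpow, ← conj_zpow, hi, hj, inv_zpow, inv_zpow, ← mul_inv_rev]
      exact congrArg _ (hc (zpow_mem hy i) _ (zpow_mem hx j))
    have k1 := ((h.card_W ht t2 t4 (hZ (EZ ha)) (od _ (EZ ha)) a1 ai).resolve_left
      (h.no_four hZ hc od hA (EZ ha))).2
    have c : Commute x a := hc (EZ ha) x hx
    have k2 := mem_cs.1 (k1 ⟨WV hw.1, hw.2⟩)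
    have k3 := mem_cs.1 (k1 ⟨conj_mem_of_mem_normalizer (h.nX (hZ hx)) (WV hw.1),
      mem_cs.2 ((c.mul_left (mem_cs.1 hw.2)).mul_left c.inv_left)⟩)
    refine w1 (fpf h.toM0 (hZ hx) (od x hx) hw.1 (comm_of_sq (od x hx) ?_))
    have k4 : x⁻¹ * w * x = x * w * x⁻¹ := by
      calc _ = (t * x * t⁻¹) * (t * w * t⁻¹) * (t * x * t⁻¹)⁻¹ := by
            rw [hi, ← k2.eq, mul_inv_cancel_right, inv_inv]
        _ = t * (x * w * x⁻¹) * t⁻¹ := by group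
        _ = _ := by rw [← k3.eq, mul_inv_cancel_right]
    calc w * x ^ 2 = x * (x⁻¹ * w * x) * x := by rw [pow_two]; group
      _ = x ^ 2 * w := by rw [k4, pow_two]; group
  rw [h.hom hX hA ρ ht t2, Units.val_one] at h1
  have h2 : ((2 : ℕ) : ZMod p) = 0 := by push_cast; linear_combination h1
  exact p2 ((Nat.prime_dvd_prime_iff_eq hp Nat.prime_two).1 ((ZMod.natCast_eq_zero_iff 2 p).1 h2))

end H50.NS
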