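import Mathlib
import Cfsg.Agent.Base
import Cfsg.Agent.Lib.Nsp.B
import Cfsg.Agent.Lib.Fpf.P1c

/-! Operators without invariant classes of sections of order two: no small involutions. -/

set_option autoImplicit false
set_option linter.unusedSectionVars false
set_option linter.style.haveILetI false

namespace H50.NS

open Subgroup H69 H68B Cfsg H42.FP H42.FP.P1b
open H42.FP.P1a (fix_nc pow_nc)
open scoped commutatorElement

variable {G : Type*} [Group G] [Finite G] {V X A D : Subgroup G} {p : ℕ}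

/-- the setting of a class two subgroup of exponent `p` -/
structure Cr (V X D : Subgroup G) (p : ℕ) : Prop extends M0 V X where
  hp : p.Prime
  p2 : p ≠ 2
  le : D ≤ X
  nD : X ≤ 𝐍(D)
  he : ∀ d ∈ D, d ^ p = 1
  cl : Cl D

/-- a small involution centralizing the centre of `D` -/
structure Sm (V X D : Subgroup G) (s : G) : Prop where
  mem : s ∈ X
  sq : s * s = 1
  four : Nat.card V ≤ 4 * Nat.card (V ⊓ centralizer {s} : Subgroup G)
  cz : ∀ z ∈ D, z ∈ 𝐂(D) → Commute s z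

namespace Cr

variable (h : Cr V X D p) {s s' x y : G}
include h

theorem od {d : G} (hd : d ∈ D) : Odd (orderOf d) :=
  (h.hp.odd_of_ne_two h.p2).of_dvd_nat (orderOf_dvd_of_pow_eq_one (h.he d hd))

theorem sq1 {d : G} (hd : d ∈ D) (e : d * d = 1) : d = 1 :=
  orderOf_eq_one_iff.1 ((Nat.coprime_two_right.2 (h.od hd)).eq_one_of_dvd
    (orderOf_dvd_of_pow_eq_one (by rw [pow_two, e])))

theorem zC (hx : x ∈ D) (hy : y ∈ D) : ⁅x, y⁆ ∈ 𝐂(D) := fun d hd => (h.cl x hx y hy d hd).symm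

theorem dec (k : Sm V X D s) {d : G} (hd : d ∈ D) :
    ∃ c ∈ D, ∃ u ∈ D, Commute s c ∧ s * u * s⁻¹ = u⁻¹ ∧ d = c * u := by
  have ti : s⁻¹ = s := inv_eq_of_mul_eq_one_right k.sq
  have he : (s * d * s⁻¹)⁻¹ * d ∈ D := mul_mem (inv_mem (conj_mem_of_mem_normalizer (h.nD k.mem) hd)) hd
  have hi : s * ((s * d * s⁻¹)⁻¹ * d) * s⁻¹ = ((s * d * s⁻¹)⁻¹ * d)⁻¹ := by
    calc _ = (s * s) * d⁻¹ * s⁻¹ * d * s⁻¹ := by group
      _ = _ := by rw [k.sq]; simp [mul_assoc, ti]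
  obtain ⟨m, hm⟩ := exists_pow_eq_self_of_coprime (x := (s * d * s⁻¹)⁻¹ * d) (n := 2)
    (Nat.coprime_two_left.2 (h.od he))
  have h1 : s * d * s⁻¹ * (((s * d * s⁻¹)⁻¹ * d) ^ m * ((s * d * s⁻¹)⁻¹ * d) ^ m) = d := by
    rw [← pow_add, ← two_mul, pow_mul, hm, mul_inv_cancel_left]
  have h2 : s * ((s * d * s⁻¹)⁻¹ * d) ^ m * s⁻¹ = (((s * d * s⁻¹)⁻¹ * d) ^ m)⁻¹ := by rw [← conj_pow, hi, inv_pow]
  have h3 := pow_mem he m
  generalize ((s * d * s⁻¹)⁻¹ * d) ^ m = u at h1 h2 h3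
  refine ⟨d * u⁻¹, mul_mem hd (inv_mem h3), u, h3, mul_inv_eq_iff_eq_mul.1 ?_, h2, by group⟩
  rw [← conj_mul, ← conj_inv, h2, inv_inv, eq_mul_inv_iff_mul_eq, mul_assoc _ u, h1]

theorem cu (k : Sm V X D s) {c u : G} (hc : c ∈ D) (hu : u ∈ D) (h1 : Commute s c) (h2 : s * u * s⁻¹ = u⁻¹) :
    Commute c u := by
  have e := (k.cz _ (cm_mem hu hc) (h.zC hu hc)).eq
  rw [← mul_inv_eq_iff_eq_mul, conjugate_commutatorElement, h2, h1.eq, mul_inv_cancel_right, ← zpow_neg_one,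
    cm_zpow (h.cl u hu c hc u hu), zpow_neg_one, inv_eq_iff_mul_eq_one] at e
  exact (commutatorElement_eq_one_iff_commute.1 (h.sq1 (cm_mem hu hc) e)).symm

theorem exists_pair (k : Sm V X D s) (hs : s ∉ 𝐂(D)) :
    ∃ x ∈ D, ∃ y ∈ D, s * x * s⁻¹ = x⁻¹ ∧ s * y * s⁻¹ = y⁻¹ ∧ ⁅x, y⁆ ≠ 1 := by
  by_contra! hn
  refine hs fun d hd => ?_
  obtain ⟨c, hc, x, hx, h1, h2, rfl⟩ := h.dec k hd
  have h3 : Commute s x := k.cz x hx fun e he => by
    obtain ⟨c', hc', y, hy, k1, k2, rfl⟩ := h.dec k he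
    exact (h.cu k hc' hx k1 h2).mul_left (commutatorElement_eq_one_iff_commute.1 (hn y hy x hx k2 h2))
  exact (h1.mul_right h3).symm

theorem fa {d : G} (hd : d ∈ X) {z : G} (hz : z ∈ D) (h1 : d ∈ 𝐂(⁅V, zpowers z⁆))
    (h2 : ∀ v ∈ V, Commute v z → Commute v d) : d = 1 := mem_bot.1 (h.faith.le ⟨hd, by
  rw [← H2.commutator_sup_centralizer (zn h.toM0 (h.le hz)) (copz h.toM0 (h.od hz))
    (.inl (H2.isSolvable_zpowers z)), centralizer_sup]
  exact ⟨h1, fun v hv => h2 v hv.1 (hv.2 z (mem_zpowers z)).symm⟩⟩)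

theorem cv {d z : G} (hd : d ∈ X) (hz : z ∈ D) (c : Commute d z) (hW : ⁅V, zpowers d⁆ ≤ ⁅V, zpowers z⁆)
    {v : G} (hv : v ∈ V) (hc : Commute v z) : Commute v d :=
  commutatorElement_eq_one_iff_commute.1 (fpf h.toM0 (h.le hz) (h.od hz)
    (hW (commutator_mem_commutator hv (mem_zpowers d))) (((hc.mul_left c).mul_left hc.inv_left).mul_left c.inv_left))

theorem key (k : Sm V X D s) (hx : x ∈ D) (hy : y ∈ D) (hi : s * x * s⁻¹ = x⁻¹) (z1 : ⁅x, y⁆ ≠ 1) :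
    (∀ v ∈ V, Commute v ⁅x, y⁆ → Commute v x ∧ Commute v s) ∧ ∀ d ∈ X, Commute d x → Commute d y →
      ∃ g ∈ zpowers ⁅x, y⁆, g⁻¹ * d ∈ 𝐂(⁅V, zpowers ⁅x, y⁆⁆) := by
  have zD := cm_mem hx hy
  have h1 := h.toM0.card_W k.mem k.sq k.four (h.le hx) (h.od hx) (fun e => z1 (by simp [e])) hi
  obtain ⟨k1, k2, k3⟩ := st' h.ea h.hp h.p2 (h.le.trans h.nX) h.he h.cl hx hy rfl rfl
    (fun e => z1 (h.fa (h.le zD) zD (by rw [e, centralizer_bot]; exact mem_top _) fun _ _ e => e)) (by omega)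
  refine ⟨fun v hv hc => ?_, fun d hd c1 c2 => k3 d ?_ c1 c2⟩
  · have := h.cv (h.le hx) zD (h.cl x hx y hy x hx).symm k1 hv hc
    exact ⟨this, mem_cs.1 ((h1.resolve_left (by omega)).2 ⟨hv, mem_cs.2 this⟩)⟩
  · rw [← cj_eq_self_iff, cj_commutator, cj_eq_of_mem_normalizer (h.nX hd), cj_zpowers,
      (show Commute d ⁅x, y⁆ from ((c1.mul_right c2).mul_right c1.inv_right).mul_right c2.inv_right).eq,
      mul_inv_cancel_right]

theorem key' (k : Sm V X D s) (hx : x ∈ D) (hy : y ∈ D) (hi : s * x * s⁻¹ = x⁻¹) (z1 : ⁅x, y⁆ ≠ 1) {z : G}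
    (hz : z ∈ D) (hc : z ∈ 𝐂(D)) : z ∈ 𝐂(⁅V, zpowers ⁅x, y⁆⁆) ∨ ⁅V, zpowers ⁅x, y⁆⁆ ≤ ⁅V, zpowers z⁆ := by
  have zD := cm_mem hx hy
  obtain ⟨g, hg, e⟩ := (h.key k hx hy hi z1).2 z (h.le hz) (hc x hx).symm (hc y hy).symm
  by_cases g1 : g = 1
  · exact .inl (by simpa [g1] using e)
  refine .inr (le_W h.ea (h.od hz) (W_le h.toM0 (h.le zD)) (le_normalizer_commutator (zn h.toM0 (h.le hz))
    (le_normalizer_of_le_centralizer (zpowers_le.2 fun a ha => hc a (zpowers_le.2 zD ha))) (mem_zpowers z))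
    fun v hv c => fpf h.toM0 (h.le zD) (h.od zD) hv (cz ?_ (pz h.hp (h.he _ zD) hg g1)))
  have := c.mul_right (show Commute v _ from e v hv).inv_right
  rwa [mul_inv_rev, mul_inv_cancel_left, inv_inv] at this

theorem pair (k : Sm V X D s) (k' : Sm V X D s') (hs' : s' ∉ 𝐂(D)) {n : ℕ} (hn : (s * s') ^ 2 ^ n = 1)
    (hx : x ∈ D) (hy : y ∈ D) (hi : s * x * s⁻¹ = x⁻¹) (hj : s * y * s⁻¹ = y⁻¹) (z1 : ⁅x, y⁆ ≠ 1) (hne : s ≠ s') :
    s' ∈ 𝐂(⁅V, zpowers ⁅x, y⁆⁆) := by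
  obtain ⟨x', hx', y', hy', hi', hj', z1'⟩ := h.exists_pair k' hs'
  have zD := cm_mem hx hy
  have zD' := cm_mem hx' hy'
  obtain ⟨a1, a2⟩ := h.key k hx hy hi z1
  obtain ⟨b1, b2⟩ := h.key k' hx' hy' hi' z1'
  have WV := W_le h.toM0 (h.le zD)
  rcases h.key' k hx hy hi z1 zD' (h.zC hx' hy') with e | e
  · exact fun v hv => (b1 v (WV hv) (e v hv)).2
  have e' := (h.key' k' hx' hy' hi' z1' zD (h.zC hx hy)).resolve_left fun e' =>
    z1 (h.fa (h.le zD) zD (centralizer_anti e e') fun _ _ e => e)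
  have c1 : ∀ v ∈ V, Commute v ⁅x, y⁆ → Commute v ⁅x', y'⁆ := fun v hv =>
    h.cv (h.le zD') zD (h.zC hx' hy' _ zD).symm e' hv
  have uX := mul_mem k.mem k'.mem
  have c2 : ∀ d ∈ D, s * d * s⁻¹ = d⁻¹ → (∀ v ∈ V, Commute v ⁅x, y⁆ → Commute v d) → Commute (s * s') d := by
    intro d hd di dv
    obtain ⟨c, hc, u, hu, k1, k2, rfl⟩ := h.dec k' hd
    obtain ⟨g, hg, k3⟩ := b2 c (h.le hc) (h.cu k' hc hx' k1 hi') (h.cu k' hc hy' k1 hj')
    have gD := zpowers_le.2 zD' hg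
    have cu := h.cu k' hc hu k1 k2
    have k4 : c * u * (s' * (c * u) * s'⁻¹) = c ^ 2 := by
      rw [← conj_mul, k2, k1.eq, mul_inv_cancel_right, mul_assoc, ← mul_assoc u, ← cu.eq, mul_inv_cancel_right, pow_two]
    obtain rfl : g = c := inv_mul_eq_one.1 (h.fa (h.le (mul_mem (inv_mem gD) hc)) zD (centralizer_anti e k3)
      fun v hv c => (cz (c1 v hv c) (inv_mem hg)).mul_right (comm_of_sq (h.od hc) (by
        have s1 := (b1 v hv (c1 v hv c)).2
        rw [← k4]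
        exact (dv v hv c).mul_right ((s1.mul_right (dv v hv c)).mul_right s1.inv_right))))
    have gC := zpowers_le.2 (h.zC hx' hy') hg
    have g1 := k.cz g gD gC
    have g2 := g1.mul_left k1
    have k5 : s * s' * (g * u) * (s * s')⁻¹ = g * u * g ^ 2 := by
      calc _ = s * ((g * u)⁻¹ * g ^ 2) * s⁻¹ := by rw [← k4]; group
        _ = _ := by rw [← conj_mul, ← conj_inv, di, inv_inv, (g1.pow_right 2).eq, mul_inv_cancel_right]
    have k6 : ∀ m : ℕ, (s * s') ^ m * (g * u) * ((s * s') ^ m)⁻¹ = g * u * (g ^ 2) ^ m := fun m => by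
      induction m with
      | zero => simp
      | succ m ih =>
        calc _ = s * s' * ((s * s') ^ m * (g * u) * ((s * s') ^ m)⁻¹) * (s * s')⁻¹ := by
              rw [pow_succ', mul_inv_rev (s * s')]; simp only [mul_assoc]
          _ = _ := by
            rw [ih, ← conj_mul, k5, ((g2.pow_right 2).pow_right m).eq, mul_inv_cancel_right, mul_assoc, ← pow_succ']
    have k7 := k6 (2 ^ n)
    rw [hn, one_mul, inv_one, mul_one, left_eq_mul, ← pow_mul, ← pow_succ'] at k7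
    obtain rfl := orderOf_eq_one_iff.1 (((Nat.coprime_two_right.2 (h.od gD)).pow_right _).eq_one_of_dvd
      (orderOf_dvd_of_pow_eq_one k7))
    rwa [one_pow, mul_one, mul_inv_eq_iff_eq_mul] at k5
  have u1 := c2 x hx hi fun v hv c => (a1 v hv c).1
  have u2 := c2 y hy hj fun v hv c => ((h.key k hy hx hj (by
    rwa [← commutatorElement_inv, inv_ne_one])).1 v hv (by rw [← commutatorElement_inv]; exact c.inv_right)).1
  obtain ⟨g, hg, k3⟩ := a2 _ uX u1 u2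
  have gD := zpowers_le.2 zD hg
  have k4 := pow_mem k3 (2 ^ n)
  rw [(cz (((u1.mul_right u2).mul_right u1.inv_right).mul_right u2.inv_right) (inv_mem hg)).symm.mul_pow, hn,
    mul_one] at k4
  obtain ⟨m, hm⟩ := exists_pow_eq_self_of_coprime (x := g⁻¹) (n := 2 ^ n)
    (Nat.Coprime.pow_left n (Nat.coprime_two_left.2 (h.od (inv_mem gD))))
  have k5 := h.fa uX zD ((mul_mem_cancel_left (hm ▸ pow_mem k4 m)).1 k3) fun v hv c =>
    (a1 v hv c).2.mul_right (b1 v hv (c1 v hv c)).2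
  exact absurd ((eq_inv_of_mul_eq_one_left k5).trans (inv_eq_of_mul_eq_one_right k'.sq)) hne

end Cr

theorem M1.m2 (h : M1 V X A) {t : G} (ht : t ∈ X) (t2 : t * t = 1)
    (t4 : Nat.card V ≤ 4 * Nat.card (V ⊓ centralizer {t} : Subgroup G)) : t = 1 := by
  classical
  by_contra t1
  haveI := h.sol
  have := Fintype.ofFinite G
  obtain ⟨p, hp, p2, D₀, hD₀, h1, h2, h3⟩ := P1c.exists_crit (H := X)
    ((map_eq_bot_iff_of_injective _ X.subtype_injective).1 h.core) (w := ⟨t, ht⟩) (Subtype.ext t2)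
    fun e => t1 (congrArg Subtype.val e)
  obtain ⟨D, hD⟩ : ∃ D, D = D₀.map X.subtype := ⟨_, rfl⟩
  have hA : A ≤ 𝐍(D) := hD ▸ H2.le_normalizer_map_subtype_of_characteristic h.nA D₀
  have c : Cr V X D p := ⟨h.toM0, hp, p2, hD ▸ map_subtype_le D₀,
    hD ▸ H2.le_normalizer_map_subtype_of_characteristic le_normalizer D₀, by
      rw [hD]
      rintro _ ⟨d, hd, rfl⟩
      exact congrArg Subtype.val (h1 d hd), by
      rw [hD]
      rintro _ ⟨a, ha, rfl⟩ _ ⟨b, hb, rfl⟩ _ ⟨c, hc, rfl⟩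
      exact (congrArg Subtype.val (h2 (commutator_mem_commutator ha hb) c hc)).symm⟩
  have tD : t ∉ 𝐂(D) := fun e => h3 fun y hy => Subtype.ext (e y (hD ▸ mem_map_of_mem _ hy))
  have sm : ∀ s ∈ X, s * s = 1 → Nat.card V ≤ 4 * Nat.card (V ⊓ centralizer {s} : Subgroup G) → Sm V X D s :=
    fun s k1 k2 k3 => ⟨k1, k2, k3, fun z hz hc => (h.caseA hp p2 (Z := D ⊓ 𝐂(D)) (inf_le_left.trans c.le)
      (le_normalizer_inf c.nD (le_normalizer_centralizer c.nD)) (le_normalizer_inf hA (le_normalizer_centralizer hA))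
      (fun d hd => c.he d hd.1) (inf_le_right.trans (centralizer_anti inf_le_left)) k1 k2 k3 z ⟨hz, hc⟩).symm⟩
  obtain ⟨T, hT, tT⟩ := exists_isSylowIn_le (p := 2) (R := zpowers t)
    (H24.EA.isPGroup (H24.EA.zpowers (by rw [pow_two, t2]))) (zpowers_le.2 ht)
  let S : Finset G := Finset.univ.filter fun s => s ∈ T ∧ s * s = 1 ∧
    Nat.card V ≤ 4 * Nat.card (V ⊓ centralizer {s} : Subgroup G) ∧ s ∉ 𝐂(D)
  have hS : ∀ s, s ∈ S ↔ s ∈ T ∧ s * s = 1 ∧
    Nat.card V ≤ 4 * Nat.card (V ⊓ centralizer {s} : Subgroup G) ∧ s ∉ 𝐂(D) := fun s => by simp [S]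
  have sm' : ∀ s ∈ S, Sm V X D s := fun s hs =>
    sm s (hT.le ((hS s).1 hs).1) ((hS s).1 hs).2.1 ((hS s).1 hs).2.2.1
  have pr : ∀ s ∈ S, ∀ s' ∈ S, s ≠ s' → ∀ x ∈ D, ∀ y ∈ D, s * x * s⁻¹ = x⁻¹ → s * y * s⁻¹ = y⁻¹ → ⁅x, y⁆ ≠ 1 →
      s' ∈ 𝐂(⁅V, zpowers ⁅x, y⁆⁆) := fun s hs s' hs' hne x hx y hy hi hj z1 => by
    obtain ⟨n, hn⟩ := hT.isP ⟨s * s', mul_mem ((hS s).1 hs).1 ((hS s').1 hs').1⟩
    exact c.pair (sm' s hs) (sm' s' hs') ((hS s').1 hs').2.2.2 (congrArg Subtype.val hn) hx hy hi hj z1 hne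
  have cm : (S : Set G).Pairwise (Function.onFun Commute id) := fun s hs s' hs' hne => by
    obtain ⟨x, hx, y, hy, hi, hj, z1⟩ := c.exists_pair (sm' s hs) ((hS s).1 hs).2.2.2
    have k := sm' s hs
    have k' := sm' s' hs'
    have zD := cm_mem hx hy
    have c1 := k.cz _ zD (c.zC hx hy)
    have c2 := k'.cz _ zD (c.zC hx hy)
    have c3 := pr s hs s' hs' hne x hx y hy hi hj z1
    refine commutatorElement_eq_one_iff_commute.1 (c.fa (cm_mem k.mem k'.mem) zD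
      (mul_mem (conj_mem_of_mem_normalizer (le_normalizer_centralizer (le_normalizer_commutator
        (zn h.toM0 k.mem) (le_normalizer_of_le_centralizer (zpowers_le.2 fun a ha => (cz c1 ha).symm)))
        (mem_zpowers s)) c3) (inv_mem c3)) fun v hv e => ?_)
    have a1 := (c.key k hx hy hi z1).1
    have a2 := (a1 _ (conj_mem_of_mem_normalizer' (h.nX k'.mem) hv) ((c2.inv_left.mul_left e).mul_left c2)).2
    have a3 := a2.inv_right.map (MulAut.conj s')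
    simp only [MulAut.conj_apply, mul_assoc, mul_inv_cancel_left, mul_inv_cancel, mul_one] at a3
    rw [commutatorElement_def, mul_assoc, mul_assoc]
    exact (a1 v hv e).2.mul_right a3
  have tS : t ∈ S := (hS t).2 ⟨tT (mem_zpowers t), t2, t4, tD⟩
  have h4 := mem_bot.1 (h.n2 ⊥ bot_le (S.noncommProd id cm) (X.noncommProd_mem _ fun s hs => (sm' s hs).mem)
    (le_normalizer_of_normal (mem_top _))
    (by rw [← pow_two, pow_nc _ _ _ _ fun s hs => by rw [pow_two]; exact (sm' s hs).sq]; exact one_mem _)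
    fun a ha => by
      obtain ⟨g, hg, b, hb, e⟩ := hT.frattini (h.nA ha)
      have e' : g⁻¹ * a = b := by rw [e, inv_mul_cancel_left]
      have bV : b ∈ 𝐍(V) := e' ▸ mul_mem (h.nX (inv_mem hg)) (h.nV ha)
      have bD : b ∈ 𝐍(D) := e' ▸ mul_mem (c.nD (inv_mem hg)) (hA ha)
      refine ⟨g⁻¹, inv_mem hg, le_normalizer_of_normal (mem_top _), ?_⟩
      rw [e', fix_nc S id cm b (fun s => b * s * b⁻¹) (MulAut.conj b).injective (fun s hs => ?_) fun _ => rfl,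
        mul_inv_cancel_right, inv_mul_cancel]
      · exact one_mem _
      obtain ⟨k1, k2, k3, k4⟩ := (hS s).1 hs
      refine (hS _).2 ⟨conj_mem_of_mem_normalizer hb k1, by rw [conj_mul, k2, mul_one, mul_inv_cancel], ?_,
        fun e => k4 (by simpa [mul_assoc] using conj_mem_of_mem_normalizer' (le_normalizer_centralizer le_rfl bD) e)⟩
      rwa [← cj_centralizer_singleton, ← cj_eq_of_mem_normalizer bV, ← cj_inf, card_cj, card_cj])
  rw [← Finset.mul_noncommProd_erase _ tS, mul_eq_one_iff_eq_inv] at h4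
  obtain ⟨x, hx, y, hy, hi, hj, z1⟩ := c.exists_pair (sm' t tS) tD
  refine t1 (c.fa ht (cm_mem hx hy) ?_ fun v hv e => ((c.key (sm' t tS) hx hy hi z1).1 v hv e).2)
  rw [show t = _ from h4]
  exact inv_mem (Subgroup.noncommProd_mem _ _ fun s hs => pr t tS s (Finset.mem_of_mem_erase hs)
    (Finset.ne_of_mem_erase hs).symm x hx y hy hi hj z1)

end H50.NS
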