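import Mathlib
import Cfsg.Agent.Base
import Cfsg.Agent.Lib.Nsp.C
import Cfsg.Agent.Lib.Fpf.P3
import Cfsg.Agent.Lib.Fpf.D2

/-! The local data for operators without invariant classes of sections of order two. -/

set_option autoImplicit false
set_option linter.unusedSectionVars false
set_option linter.style.haveILetI false

namespace H50.NS

open Subgroup H69 H68B Cfsg H42.FP H42
open H42.FP.P2 (card_inf_mul rI_ne four_iff card_range_inf fit_odd Hol hol_finite hol_conj hol_comm)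
open H42.FP.P3 hiding gw0
open H2 (subAut quotAut)
open scoped commutatorElement

universe u v

local notation "𝐉(" T ")" => thompsonSubgroupOf 2 T
local notation "𝐕(" T ")" => omegaOneCenter 2 T

section
variable {A G : Type*} [Group A] [Group G] {φ : A →* MulAut G}

/-- the elementwise form of `NS` -/
def NE (φ : A →* MulAut G) : Prop := ∀ (L : Subgroup G) (x : G), x ∈ 𝐍(L) → x * x ∈ L →
  (∀ a, ∃ g : G, (∀ l ∈ L, g * φ a l * g⁻¹ ∈ L) ∧ x⁻¹ * (g * φ a x * g⁻¹) ∈ L) → x ∈ L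

theorem NE.ns (h : NE φ) : NS φ := fun L K h1 h2 h3 => by
  have m : ∀ x ∈ K, ∀ y ∈ K, (x * y ∈ L ↔ (x ∈ L ↔ y ∈ L)) := fun x hx y hy =>
    mul_mem_iff_of_index_two h2 (a := ⟨x, hx⟩) (b := ⟨y, hy⟩)
  obtain ⟨x, hx, hx'⟩ := SetLike.not_le_iff_exists.1 fun e : K ≤ L => by
    rw [relIndex_eq_one.2 e] at h2; omega
  refine hx' (h L x ((normal_subgroupOf_iff_le_normalizer h1).1 (normal_of_index_eq_two h2) hx)
    ((m x hx x hx).2 Iff.rfl) fun a => ?_)
  obtain ⟨g, e1, e2⟩ := h3 a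
  have k : ∀ y, g⁻¹ * φ a y * g⁻¹⁻¹ ∈ L ↔ y ∈ L := fun y => by
    rw [inv_inv, ← mem_cj, ← e1]
    exact mem_map_iff_mem (f := (φ a).toMonoidHom) (φ a).injective
  refine ⟨g⁻¹, fun l hl => (k l).2 hl, (m _ (inv_mem hx) _ ?_).2 (by rw [k, inv_mem_iff])⟩
  rw [inv_inv, ← mem_cj, ← e2]
  exact mem_map_of_mem _ hx

theorem NE.of_ns [Finite G] (h : NS φ) : NE φ := fun L x h1 h2 h3 => by
  by_contra hx
  have hz := zpowers_le.2 h1
  refine h L (L ⊔ zpowers x) le_sup_left ?_ fun a => ?_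
  · have hk : ∀ k : ℤ, x ^ k ∈ L ∨ x ^ k * x ∈ L := fun k => by
      rcases Int.even_or_odd' k with ⟨j, rfl | rfl⟩
      · exact .inl (by rw [zpow_mul, zpow_two]; exact zpow_mem h2 j)
      · exact .inr (by rw [zpow_add_one, zpow_mul, zpow_two, mul_assoc]; exact mul_mem (zpow_mem h2 j) h2)
    refine index_eq_two_iff.2 ⟨⟨x, mem_sup_right (mem_zpowers x)⟩, fun ⟨y, hy⟩ => ?_⟩
    obtain ⟨l, hl, _, ⟨k, rfl⟩, rfl⟩ := (mem_sup_of_le_normalizer_left hz).1 hy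
    change Xor (l * x ^ k * x ∈ L) (l * x ^ k ∈ L)
    rw [mul_assoc, mul_mem_cancel_left hl, mul_mem_cancel_left hl]
    rcases hk k with e | e
    · exact .inr ⟨e, fun e' => hx ((mul_mem_cancel_left e).1 e')⟩
    · exact .inl ⟨e, fun e' => hx ((mul_mem_cancel_left e').1 e)⟩
  obtain ⟨g, e1, e2⟩ := h3 a
  have k : ∀ K : Subgroup G, (∀ l ∈ K, g * φ a l * g⁻¹ ∈ K) → K.map (φ a).toMonoidHom = K ^ᶜ g⁻¹ := fun K e =>
    eq_of_le_of_card_ge (by
      rintro _ ⟨l, hl, rfl⟩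
      rw [mem_cj, inv_inv]
      exact e l hl) (by rw [card_cj, card_map_of_injective (φ a).injective])
  refine ⟨g⁻¹, k L e1, k _ (sup_le (a := L) (b := zpowers x)
    (c := (L ⊔ zpowers x).comap ((MulAut.conj g).toMonoidHom.comp (φ a).toMonoidHom))
    (fun l hl => mem_sup_left (e1 l hl)) (zpowers_le.2 ?_))⟩
  exact (mul_mem_cancel_left (inv_mem (mem_sup_right (mem_zpowers x)))).1 (mem_sup_left e2)

theorem NE.sub (h : NE φ) {N : Subgroup G} (hN : Iv φ N) : NE (subAut φ N hN) := fun L x h1 h2 h3 =>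
  (mem_map_iff_mem N.subtype_injective).1 (h (L.map N.subtype) x (le_normalizer_map _ (mem_map_of_mem _ h1))
    (mem_map_of_mem N.subtype h2) fun a => by
      obtain ⟨g, e1, e2⟩ := h3 a
      refine ⟨g, ?_, mem_map_of_mem N.subtype e2⟩
      rintro _ ⟨l, hl, rfl⟩
      exact mem_map_of_mem N.subtype (e1 l hl))

theorem NE.map (h : NE φ) {H : Type*} [Group H] {ψ : A →* MulAut H} {f : G →* H}
    (hf : Function.Surjective f) (e : ∀ a x, f (φ a x) = ψ a (f x)) : NE ψ := fun L x h1 h2 h3 => by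
  obtain ⟨x, rfl⟩ := hf x
  refine h (L.comap f) x (le_normalizer_comap f h1) (by rwa [mem_comap, map_mul]) fun a => ?_
  obtain ⟨g, e1, e2⟩ := h3 a
  obtain ⟨g, rfl⟩ := hf g
  exact ⟨g, fun l hl => by simpa [e] using e1 _ hl, by simpa [e] using e2⟩

theorem NE.quot (h : NE φ) {N : Subgroup G} [N.Normal] (hN : Iv φ N) : NE (quotAut φ N hN) :=
  h.map (QuotientGroup.mk'_surjective N) fun _ _ => rfl

theorem NE.conj (h : NE φ) (σ : MulAut G) : NE ((MulAut.conj σ).toMonoidHom.comp φ) :=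
  h.map (f := σ.toMonoidHom) σ.surjective fun a x => by simp

/-- change of the operator group modulo inner automorphisms -/
theorem NE.twist (h : NE φ) {B : Type*} [Group B] {ψ : B →* MulAut G}
    (e : ∀ a, ∃ b g, ∀ x, ψ b x = g * φ a x * g⁻¹) : NE ψ := fun L x h1 h2 h3 => h L x h1 h2 fun a => by
  obtain ⟨b, k, e⟩ := e a
  obtain ⟨g, e1, e2⟩ := h3 b
  exact ⟨g * k, fun l hl => by simpa [e, mul_assoc] using e1 l hl, by simpa [e, mul_assoc] using e2⟩

theorem NE.inv (h : NE φ) {x : G} (h2 : x * x = 1) (h3 : ∀ a, ∃ g : G, g * φ a x * g⁻¹ = x) : x = 1 :=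
  mem_bot.1 (h ⊥ x (le_normalizer_of_normal (mem_top x)) h2 fun a => by
    obtain ⟨g, e⟩ := h3 a
    exact ⟨g, fun l hl => by simp [mem_bot.1 hl], by simp [e]⟩)

end

/-- no near offenders on the module -/
theorem mo_vg' {G : Type*} [Group G] [Finite G] {V X A : Subgroup G} (h : M1 V X A) : ∀ (n : ℕ) (R : Subgroup G), Nat.card R = n →
    R ≤ X → IsElementaryAbelian 2 R →
    Nat.card V ≤ 2 * (Nat.card R * Nat.card (V ⊓ 𝐂(R) : Subgroup G)) → R = ⊥ := by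
  intro n
  induction n using Nat.strong_induction_on with
  | _ n ih =>
  intro R hn hR he hc
  by_contra hne
  have ho := fit_odd h.core
  have hF := H1.fittingOf_le X
  have hRF : R ≤ 𝐍(fittingOf X) := hR.trans (H1.le_normalizer_fittingOf X)
  refine hne (eq_bot_of_not_dvd (H43.ea_isPGroup he) ((le_inf hR (le_centralizer_comm.1
    (H43.le_of_forall_hyp he hne hRF ho fun B hB => ?_))).trans
    (H1.inf_centralizer_fittingOf_le h.sol)) ho)
  have hcB := hB.card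
  by_cases hB0 : B = ⊥
  · obtain ⟨t, ht, t1⟩ := hB.exists_not_mem
    have e := hB.sup_zpowers ht t1
    rw [hB0, bot_sup_eq] at e
    rw [hB0, card_bot] at hcB
    rw [← hcB, ← e, centralizer_zpowers] at hc
    exact (t1 (by
      rw [h.m2 (hR ht) (by rw [← pow_two]; exact he.2 t ht) (by omega)]; exact one_mem _)).elim
  have hlt := not_le.1 fun hh => hB0 (ih _ (by
    have := Nat.card_pos (α := B); omega) B rfl (hB.le.trans hR) (H43.ea_of_le he hB.le) hh)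
  have hle : V ⊓ 𝐂(R) ≤ V ⊓ 𝐂(B) := inf_le_inf_left _ (centralizer_anti hB.le)
  have hD : V ⊓ 𝐂(B) ≤ V ⊓ 𝐂(R) := by
    have h1 := card_inf_mul (V ⊓ 𝐂(B)) (V ⊓ 𝐂(R))
    rw [inf_eq_right.2 hle] at h1
    have h2 : Nat.card (V ⊓ 𝐂(B) : Subgroup G) < Nat.card (V ⊓ 𝐂(R) : Subgroup G) * 2 := by
      refine Nat.lt_of_mul_lt_mul_left (a := Nat.card R) ?_
      rw [← hcB] at hc ⊢
      nlinarith
    rw [← h1] at h2
    have h3 := Nat.lt_of_mul_lt_mul_left h2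
    have h4 : (V ⊓ 𝐂(R)).relIndex (V ⊓ 𝐂(B)) ≠ 0 := rI_ne _ _
    exact relIndex_eq_one.1 (by omega)
  have hRB : R ≤ 𝐂(B) := H43.ea_le_centralizer he hB.le
  have hQ : ⁅fittingOf X ⊓ 𝐂(B), R⁆ ≤ fittingOf X ⊓ 𝐂(B) :=
    commutator_le_left_of_le_normalizer (le_normalizer_inf hRF (le_normalizer_of_le hRB))
  have hQX := hQ.trans (inf_le_left.trans hF)
  have hY : fittingOf X ⊓ 𝐂(B) ≤ 𝐍(𝐂(V ⊓ 𝐂(B))) := le_normalizer_centralizer
    (le_normalizer_inf (inf_le_left.trans (hF.trans h.nX)) (le_normalizer_of_le inf_le_right))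
  have h1 := H2.thompson_PxQ (H43.ea_isPGroup (H43.ea_of_le he hB.le))
    (Q := ⁅fittingOf X ⊓ 𝐂(B), R⁆) ((Nat.Prime.coprime_iff_not_dvd Nat.prime_two).2 fun hd =>
      ho (hd.trans (card_dvd_of_le (hQ.trans inf_le_left)))).symm (H43.ea_isPGroup h.ea)
    (le_centralizer_comm.1 (hQ.trans inf_le_right)) ((hB.le.trans hR).trans h.nX)
    (hQX.trans h.nX) (le_centralizer_comm.1 ((commutator_mono le_rfl
      (le_centralizer_comm.1 (hD.trans inf_le_right))).trans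
      (commutator_le_right_of_le_normalizer hY)))
  exact le_centralizer_of_commutator_eq_bot (eq_bot_iff.2 ((le_inf hQX h1).trans h.faith.le))

variable {A : Type*} {G : Type v} [Group A] [Finite A] [Group G] [Finite G] {φ : A →* MulAut G}

/-- the module model' of a 2-reduced section -/
theorem model' (h : NE φ) {N U : Subgroup G} (hN : Iv φ N) (hs : Group.IsSolvable N) (hU : Iv φ U)
    (he : IsElementaryAbelian 2 U) (hn : N ≤ 𝐍(U))
    (red : ∀ K ≤ N, N ≤ 𝐍(K) → (∀ k ∈ K, ∃ j : ℕ, k ^ 2 ^ j ∈ 𝐂(U)) → Iv φ K → K ≤ 𝐂(U)) :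
    ∃ (i : U →* Hol U) (F : N →* Hol U) (B : Subgroup (Hol U)), M1 i.range F.range B ∧
      Function.Injective i ∧ F.ker = (𝐂(U)).subgroupOf N ∧
      ∀ (n : N) (u : U), Commute (F n) (i u) ↔ Commute (n : G) u := by
  haveI := hol_finite U
  let ρ : N →* MulAut U := U.normalizerMonoidHom.comp (inclusion hn)
  let F : N →* Hol U := SemidirectProduct.inr.comp ρ
  let α : A →* Hol U := SemidirectProduct.inr.comp (subAut φ U hU)
  let i : U →* Hol U := SemidirectProduct.inl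
  have hρ : ∀ (n : N) (u : U), (ρ n u : G) = n * u * (n : G)⁻¹ := fun n u => rfl
  have e1 : ∀ (n : N) (u : U), Commute (F n) (i u) ↔ Commute (n : G) u := fun n u => by
    refine (hol_comm (ρ n) u).trans ?_
    rw [Subtype.ext_iff, hρ, mul_inv_eq_iff_eq_mul]
    rfl
  have e2 : ∀ n : N, F n = 1 ↔ (n : G) ∈ 𝐂(U) := fun n =>
    ⟨fun e u hu => ((e1 n ⟨u, hu⟩).1 (e ▸ Commute.one_left _)).symm, fun e => by
      have : ρ n = 1 := MulEquiv.ext fun u => (hol_comm (ρ n) u).1 ((e1 n u).2 (e u u.2).symm)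
      exact (congrArg SemidirectProduct.inr this).trans (map_one _)⟩
  have e3 : ∀ (a : A) (n : N), F (subAut φ N hN a n) = α a * F n * (α a)⁻¹ := fun a n => by
    have : ρ (subAut φ N hN a n) = subAut φ U hU a * ρ n * (subAut φ U hU a)⁻¹ := by
      rw [← map_inv]
      refine MulEquiv.ext fun u => Subtype.ext ?_
      change φ a n * u * (φ a n)⁻¹ = φ a (n * φ a⁻¹ u * (n : G)⁻¹)
      simp
    exact (congrArg SemidirectProduct.inr this).trans (by rw [map_mul, map_mul, map_inv]; rfl)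
  have hV : i.range.Normal := by
    rw [SemidirectProduct.range_inl_eq_ker_rightHom]; infer_instance
  have nA : α.range ≤ 𝐍(F.range) := by
    rintro _ ⟨a, rfl⟩
    refine H24.mem_normalizer_of_conj_mem ?_
    rintro _ ⟨n, rfl⟩
    exact ⟨_, e3 a n⟩
  refine ⟨i, F, α.range, ⟨⟨?_, le_normalizer_of_normal, ?_, ?_, ?_⟩, le_normalizer_of_normal, nA, ?_, ?_⟩,
    SemidirectProduct.inl_injective, Subgroup.ext e2, e1⟩
  · refine H43.ea_mk ?_ ?_
    · rintro _ ⟨a, rfl⟩ _ ⟨b, rfl⟩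
      rw [← map_mul, ← map_mul, show a * b = b * a from Subtype.ext (H43.ea_comm he a.2 b.2)]
    · rintro _ ⟨a, rfl⟩
      rw [← map_pow, show a ^ 2 = 1 from Subtype.ext (he.2 a a.2), map_one]
  · exact Group.isSolvable_of_surjective F.rangeRestrict_surjective
  · refine eq_bot_iff.2 ?_
    rintro _ ⟨⟨n, rfl⟩, hx⟩
    exact (e2 n).2 fun u hu => ((e1 n ⟨u, hu⟩).1 (hx _ ⟨_, rfl⟩).symm).symm
  · have hO : ((pCoreOf 2 F.range).comap F).Normal := ⟨fun k hk n => by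
      rw [mem_comap, map_mul, map_mul, map_inv]
      exact conj_mem_of_mem_normalizer (H1.le_normalizer_pCoreOf _ ⟨n, rfl⟩) hk⟩
    have h1 := red _ (map_subtype_le _) (normal_iff_le_normalizer_map.1 hO) (by
      rintro _ ⟨k, hk, rfl⟩
      obtain ⟨j, hj⟩ := H1.isPGroup_pCoreOf _ ⟨_, hk⟩
      exact ⟨j, (e2 (k ^ 2 ^ j)).1 (by rw [map_pow]; exact congrArg Subtype.val hj)⟩) (by
      rintro a _ ⟨k, hk, rfl⟩
      refine ⟨subAut φ N hN a k, ?_, rfl⟩
      rw [SetLike.mem_coe, mem_comap, e3]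
      exact conj_mem_of_mem_normalizer (H1.normalizer_le_normalizer_pCoreOf _ (nA ⟨a, rfl⟩)) hk)
    refine eq_bot_iff.2 fun x hx => ?_
    obtain ⟨n, rfl⟩ := H1.pCoreOf_le _ hx
    exact (e2 n).2 (h1 ⟨n, hx, rfl⟩)
  · rintro _ ⟨u, rfl⟩ hu
    rw [show u = 1 from Subtype.ext (h.inv (by rw [← pow_two]; exact he.2 u u.2) fun a => ?_), map_one]
    obtain ⟨_, ⟨n, rfl⟩, e⟩ := hu _ ⟨a, rfl⟩
    have e4 : F n * α a = SemidirectProduct.inr (ρ n * subAut φ U hU a) :=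
      (map_mul (SemidirectProduct.inr : MulAut U →* Hol U) (ρ n) (subAut φ U hU a)).symm
    rw [e4, hol_conj] at e
    exact ⟨n, congrArg Subtype.val (SemidirectProduct.inl_injective e)⟩
  · rintro L - _ ⟨n, rfl⟩ h1 h2 h3
    refine h.sub hN (L.comap F) n (le_normalizer_comap F h1) (by rwa [mem_comap, map_mul]) fun a => ?_
    obtain ⟨_, ⟨g, rfl⟩, k1, k2⟩ := h3 _ ⟨a, rfl⟩
    have e4 : ∀ l : N, F (g * subAut φ N hN a l * g⁻¹) = F g * α a * F l * (F g * α a)⁻¹ := fun l => by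
      rw [map_mul, map_mul, map_inv, e3]; group
    exact ⟨g, fun l hl => by rw [mem_comap, e4]; exact conj_mem_of_mem_normalizer k1 hl,
      by rwa [mem_comap, map_mul, map_inv, e4]⟩

theorem m2r' (h : NE φ) {N U : Subgroup G} (hN : Iv φ N) (hs : Group.IsSolvable N) (hU : Iv φ U)
    (he : IsElementaryAbelian 2 U) (hn : N ≤ 𝐍(U))
    (red : ∀ K ≤ N, N ≤ 𝐍(K) → (∀ k ∈ K, ∃ j : ℕ, k ^ 2 ^ j ∈ 𝐂(U)) → Iv φ K → K ≤ 𝐂(U))
    {e : G} (e1 : e ∈ N) (e2 : e * e ∈ 𝐂(U))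
    (e4 : Nat.card U ≤ 4 * Nat.card (U ⊓ centralizer {e} : Subgroup G)) : e ∈ 𝐂(U) := by
  haveI := hol_finite U
  obtain ⟨i, F, B, m, hi, hk, hc⟩ := model' h hN hs hU he hn red
  have h1 : F ⟨e, e1⟩ * F ⟨e, e1⟩ = 1 := by
    rw [← map_mul, ← MonoidHom.mem_ker, hk]; exact e2
  have h2 := m.m2 ⟨⟨e, e1⟩, rfl⟩ h1 (by
    rw [card_range_inf hi (Q := centralizer {e}) fun u => by
      rw [mem_centralizer_singleton_iff, mem_centralizer_singleton_iff]
      exact ⟨fun a => ((hc _ u).1 a.symm).symm, fun a => ((hc ⟨e, e1⟩ u).2 a.symm).symm⟩,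
      ← Nat.card_congr (MonoidHom.ofInjective hi).toEquiv]
    exact e4)
  rwa [← MonoidHom.mem_ker, hk] at h2

theorem vgr' (h : NE φ) {N U : Subgroup G} (hN : Iv φ N) (hs : Group.IsSolvable N) (hU : Iv φ U)
    (he : IsElementaryAbelian 2 U) (hn : N ≤ 𝐍(U))
    (red : ∀ K ≤ N, N ≤ 𝐍(K) → (∀ k ∈ K, ∃ j : ℕ, k ^ 2 ^ j ∈ 𝐂(U)) → Iv φ K → K ≤ 𝐂(U)) :
    VG U N := by
  haveI := hol_finite U
  obtain ⟨i, F, B, m, hi, hk, hc⟩ := model' h hN hs hU he hn red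
  intro R hR hR2 hle
  have h1 : Nat.card ((R.subgroupOf N).map F) = (𝐂(U)).relIndex R := by
    rw [← relIndex_ker, hk, relIndex_subgroupOf hR]
  have h2 := mo_vg' m _ ((R.subgroupOf N).map F) rfl (map_le_range _ _)
    (H43.ea_map (H43.ea_mk (fun a ha b hb => Subtype.ext (H43.ea_comm hR2 ha hb))
      fun a ha => Subtype.ext (hR2.2 a ha)) F) (by
    rw [card_range_inf hi (P := 𝐂((R.subgroupOf N).map F)) (Q := 𝐂(R)) fun u => ⟨fun a r hr =>
        (hc ⟨r, hR hr⟩ u).1 (a _ ⟨⟨r, hR hr⟩, hr, rfl⟩), by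
          rintro a _ ⟨r, hr, rfl⟩
          exact (hc r u).2 (a _ hr)⟩,
      ← Nat.card_congr (MonoidHom.ofInjective hi).toEquiv, h1]
    rw [← card_inf_mul R 𝐂(U)] at hle
    refine Nat.le_of_mul_le_mul_right ?_ (Nat.card_pos (α := (R ⊓ 𝐂(U) : Subgroup G)))
    exact hle.trans (le_of_eq (by ring)))
  rw [h2, card_bot] at h1
  exact relIndex_eq_one.1 h1.symm

theorem m2K' : ∀ (n : ℕ) (G : Type v) [Group G] [Finite G] (φ : A →* MulAut G) (N U : Subgroup G)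
    (e : G), Nat.card U = n → NE φ → Iv φ N → Group.IsSolvable N → Iv φ U →
    IsElementaryAbelian 2 U → N ≤ 𝐍(U) → e ∈ N → e * e ∈ 𝐂(U) →
    (centralizer {e}).relIndex U ≤ 4 →
    ∃ K : Subgroup G, N ≤ 𝐍(K) ∧ e ∈ K ∧ ∀ k ∈ K, ∃ j : ℕ, k ^ 2 ^ j ∈ 𝐂(U) := by
  intro n
  induction n using Nat.strong_induction_on with
  | _ n ih =>
  intro G _ _ φ N U e hc h hN hs hU he hn e1 e2 e4
  by_cases h0 : U = ⊥
  · exact ⟨N, le_normalizer, e1, fun k _ => ⟨0, by rw [h0, centralizer_bot]; exact mem_top _⟩⟩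
  obtain ⟨W, ⟨w1, w2, w3, w4⟩, hmin⟩ := (wellFounded_lt (α := Subgroup G)).has_min
    {W | W ≤ U ∧ W ≠ ⊥ ∧ N ≤ 𝐍(W) ∧ Iv φ W} ⟨U, le_rfl, h0, hn, hU⟩
  have hW := H43.ea_of_le he w1
  have eW : e ∈ 𝐂(W) := m2r' h hN hs w4 hW w3 (fun K k1 k2 k3 k4 => by
      by_contra hh
      exact hmin (W ⊓ 𝐂(K)) ⟨inf_le_left.trans w1, inf_centralizer_ne_bot_of_res_le
        (H43.ea_isPGroup hW) (k1.trans w3) (res_le_of_pow_mem k3) w2,
        le_normalizer_inf w3 (le_normalizer_centralizer k2), w4.inf k4.cent⟩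
        (inf_lt_left.2 fun a => hh (le_centralizer_comm.1 a))) e1 (centralizer_anti w1 e2)
    (four_iff.2 ((relIndex_le_of_le_right w1 (rI_ne _ _)).trans e4))
  have hUW : U ≤ 𝐍(W) := H43.ea_le_normalizer he w1
  let π := QuotientGroup.mk' (W.subgroupOf 𝐍(W))
  have c1 : Nat.card ((U.subgroupOf 𝐍(W)).map π) = W.relIndex U := by
    rw [← relIndex_ker, QuotientGroup.ker_mk', relIndex_subgroupOf hUW]
  have c2 := card_inf_mul U W
  rw [inf_eq_right.2 w1] at c2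
  have c3 := (one_lt_card_iff_ne_bot W).2 w2
  have c4 : W.relIndex U ≠ 0 := rI_ne _ _
  obtain ⟨K, k1, k2, k3⟩ := ih _ (by rw [c1, ← hc, ← c2]; exact lt_mul_left (by omega) c3) _
    (quotAut (subAut φ _ w4.norm) _ (w4.subgroupOf w4.norm)) ((N.subgroupOf 𝐍(W)).map π)
    ((U.subgroupOf 𝐍(W)).map π) (π ⟨e, w3 e1⟩) rfl ((h.sub w4.norm).quot _)
    ((hN.subgroupOf _).map_mk _) (H1.isSolvable_map (H1.isSolvable_subgroupOf hs _) _)
    ((hU.subgroupOf _).map_mk _)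
    (H43.ea_map (H43.ea_mk (fun a ha b hb => Subtype.ext (H43.ea_comm he ha hb))
      fun a ha => Subtype.ext (he.2 a ha)) π)
    ((map_mono ((comap_mono hn).trans (le_normalizer_comap _))).trans (le_normalizer_map _))
    ⟨_, e1, rfl⟩ (by
      rintro _ ⟨u, hu, rfl⟩
      rw [← map_mul, ← map_mul, ← map_mul]
      exact congrArg π (Subtype.ext (e2 _ hu))) (by
      rw [← relIndex_comap]
      refine (relIndex_le_of_le_left (H := (centralizer {e}).subgroupOf 𝐍(W)) (fun x hx => ?_)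
        (rI_ne _ _)).trans (by rwa [relIndex_subgroupOf hUW])
      rw [mem_comap, mem_centralizer_singleton_iff, ← map_mul, ← map_mul]
      exact congrArg π (Subtype.ext (mem_centralizer_singleton_iff.1 hx)))
  refine ⟨𝐂(W) ⊓ (K.comap π).map (𝐍(W)).subtype, le_normalizer_inf (le_normalizer_centralizer w3)
    fun g hg => H24.mem_normalizer_of_conj_mem ?_, ⟨eW, _, k2, rfl⟩, ?_⟩
  · rintro _ ⟨y, hy, rfl⟩
    refine ⟨⟨g, w3 hg⟩ * y * ⟨g, w3 hg⟩⁻¹, ?_, rfl⟩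
    rw [SetLike.mem_coe, mem_comap, map_mul, map_mul, map_inv]
    exact conj_mem_of_mem_normalizer (k1 ⟨_, hg, rfl⟩) hy
  · rintro _ ⟨hk, y, hy, rfl⟩
    obtain ⟨j, hj⟩ := k3 _ hy
    refine ⟨j + 1, fun u hu => ?_⟩
    have h1 := hj _ ⟨⟨u, hUW hu⟩, hu, rfl⟩
    rw [← map_pow, ← map_mul, ← map_mul] at h1
    have h2 : (u * (y : G) ^ 2 ^ j)⁻¹ * ((y : G) ^ 2 ^ j * u) ∈ W :=
      mem_subgroupOf.1 (QuotientGroup.eq.1 h1)
    have h3 := pow_mem hk (2 ^ j) _ h2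
    have h4 := hW.2 _ h2
    rw [pow_succ, pow_mul]
    change _ * (y : G) ^ 2 ^ j = (y : G) ^ 2 ^ j * _ at h3
    change u * ((y : G) ^ 2 ^ j) ^ 2 = ((y : G) ^ 2 ^ j) ^ 2 * u
    generalize (y : G) ^ 2 ^ j = z at h3 h4 ⊢
    generalize hw : (u * z)⁻¹ * (z * u) = w at h3 h4
    have h5 : z * u = u * z * w := by rw [← hw]; group
    calc u * z ^ 2 = u * z * (w * w) * z := by rw [← pow_two w, h4, mul_one, pow_two, mul_assoc]
      _ = u * z * w * (z * w) := by rw [← h3]; simp only [mul_assoc]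
      _ = z * u * (z * w) := by rw [h5]
      _ = z * (u * z * w) := by simp only [mul_assoc]
      _ = z ^ 2 * u := by rw [← h5, pow_two, mul_assoc]

theorem m2g' (h : NE φ) {N U : Subgroup G} (hN : Iv φ N) (hs : Group.IsSolvable N) (hU : Iv φ U)
    (he : IsElementaryAbelian 2 U) (hn : N ≤ 𝐍(U)) {e g : G} (e1 : e ∈ N) (hg : g ∈ N)
    (e2 : e * e ∈ 𝐂(U))
    (e4 : Nat.card U ≤ 4 * Nat.card (U ⊓ centralizer {e} : Subgroup G)) :
    ∃ k : ℕ, (e * (g * e * g⁻¹)) ^ 2 ^ k ∈ 𝐂(U) := by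
  obtain ⟨K, k1, k2, k3⟩ := m2K' _ G φ N U e rfl h hN hs hU he hn e1 e2 (four_iff.1 e4)
  exact k3 _ (mul_mem k2 (conj_mem_of_mem_normalizer (k1 hg) k2))

theorem vg' (h : NE φ) {S : Subgroup G} (hS : IsSylowIn 2 S ⊤) (hi : Iv φ S)
    (hs : Group.IsSolvable 𝐍(𝐉(S))) : VG (ww S) S := by
  have h1 : S ≤ 𝐍(𝐉(S)) := le_normalizer.trans (H24.normalizer_le_normalizer_thompsonSubgroupOf S)
  refine fun R hR => vgr' h hi.J.norm hs hi.ww (ww_ea S) (le_normalizer_ww S)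
    (fun K k1 k2 k3 _ => le_centralizer_comm.1 (ncl_le_centralizer (le_centralizer_comm.1 ?_) k2))
    R (hR.trans h1)
  exact ((hS.mono h1 le_top).inf_normal k1 k2).eq_of_res_le
    (inf_le_left.trans (le_centralizer_comm.1 (oc_le_cent S)))
    ((res_le_of_pow_mem k3).trans (centralizer_anti (oc_le_ww S)))

theorem gw0' (h : NE φ) (hs : Group.IsSolvable G) (hG : 𝐂(pCore 2 G) ≤ pCore 2 G)
    {S U : Subgroup G} (hS : IsSylowIn 2 S ⊤) (hi : Iv φ S) (hU : U ≤ S)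
    (he : IsElementaryAbelian 2 U) (hu : Iv φ U) (hv : VG U S) (hJ : 𝐍(𝐉(S)) ≤ 𝐍(U))
    (min : ∀ H, S ≤ H → Iv φ H → H ≠ ⊤ → H ≤ 𝐍(U)) : U.Normal := by
  by_contra hM
  replace hM : 𝐍(U) ≠ ⊤ := fun e => hM (normal_iff_top_le_normalizer.2 e.ge)
  have nJ := H24.normalizer_le_normalizer_thompsonSubgroupOf (p := 2) (G := G)
  have SM : S ≤ 𝐍(U) := le_normalizer.trans ((nJ S).trans hJ)
  have UQ := le_core hs hG hS hi hU he hu hv SM hM min
  set Q := pCore 2 G with hQ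
  have nQ : ∀ K : Subgroup G, K ≤ 𝐍(Q) := fun K => le_normalizer_of_normal
  have QS := hS.le_of_le_normalizer H1.isPGroup_pCore le_top (nQ _)
  have cQ : ∀ {K : Subgroup G} (g), K ≤ Q → K ^ᶜ g ≤ Q := fun g hK =>
    cj_le_of_mem_normalizer hK (nQ ⊤ (mem_top g))
  obtain ⟨E, ⟨hE, nE⟩, mx⟩ := Set.exists_max_image {E | E ∈ H24.maxEA 2 S ∧ ¬ E ≤ Q}
    (fun E => Nat.card (E ⊓ Q : Subgroup G)) (Set.toFinite _) (by
      by_contra hc
      refine hM (top_le_iff.1 ((nQ _).trans ((nJ Q).trans ?_)))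
      rwa [H24.thompsonSubgroupOf_eq_of_le (H24.thompsonSubgroupOf_le_iff.2 fun E hE =>
        not_not.1 fun e => hc ⟨E, hE, e⟩) QS])
  obtain ⟨B, hB, b1, b2, t, ht, x, x1, -, x3⟩ := cfg' hs hS hi SM hM min hu.norm hE.1 hE.2.1 nE
  have eB := H24.EA.mono hE.2.1 hB
  have tB : t ∈ 𝐂(B) := centralizer_anti hB (H24.EA.le_centralizer hE.2.1 ht)
  have c1 := big hv hU he hE x1 (H24.EA.map eB _) (by rwa [card_cj])
  rw [cj_le_iff, cj_centralizer] at c1
  have c2 : ¬ U ^ᶜ x⁻¹ ≤ B := fun e => x3 0 (by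
    have := cj_mem x (centralizer_anti e tB)
    rw [cj_centralizer, cj_inv_cj] at this
    rw [pow_zero, pow_one]
    exact mul_mem (SM (hE.1 ht)) (centralizer_le_normalizer _ this))
  have hD := H24.mem_maxEA_of_card_le hE (sup_le (hB.trans hE.1) ((cQ x⁻¹ UQ).trans QS))
    (H24.EA.sup eB (H24.EA.map he _) c1)
    (b2.trans (two_mul_le (lt_of_le_not_ge le_sup_left fun e => c2 (le_sup_right.trans e))))
  set D := B ⊔ U ^ᶜ x⁻¹ with eD
  have DQ : D ≤ Q := by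
    by_contra e
    have := eq_of_le_of_card_ge (le_inf (b1.trans le_sup_left) inf_le_right) (mx D ⟨hD, e⟩)
    exact c2 ((le_inf le_sup_right (cQ _ UQ)).trans (this.ge.trans b1))
  have YD : ncl U ⊤ ≤ D := ncl_le_iff.2 fun g _ => by
    have := big hv hU he hD ((cQ g⁻¹ DQ).trans QS) (H24.EA.map hD.2.1 _)
      (by rw [card_cj]; omega)
    rw [cj_le_iff, inv_inv, cj_centralizer, le_centralizer_iff] at this
    exact H24.le_of_mem_maxEA_of_le_centralizer hD ((cQ g UQ).trans QS) (H24.EA.map he _) this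
  have nY := le_normalizer_ncl U ⊤
  have c3 := H24.card_sup_mul_card_inf' (le_top.trans nY : B ≤ _)
  have c4 := (card_le_of_le (sup_le YD le_sup_left)).trans ((hE.2.2 D hD.1 hD.2.1).trans b2)
  have c5 : Nat.card (ncl U ⊤ ⊓ B : Subgroup G) ≤
      Nat.card (ncl U ⊤ ⊓ centralizer {t} : Subgroup G) := card_le_of_le
    (inf_le_inf_left _ fun b hb => mem_centralizer_singleton_iff.2 (tB b hb))
  obtain ⟨k, hk⟩ := m2g' h Iv.top inferInstance (hu.ncl Iv.top) (H24.EA.mono hD.2.1 YD) nY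
    (mem_top t) (mem_top x) (by rw [← pow_two, hE.2.1.2 t ht]; exact one_mem _)
    (Nat.le_of_mul_le_mul_right (c3.ge.trans ((Nat.mul_le_mul c4 c5).trans (by nlinarith)))
      (Nat.card_pos (α := B)))
  exact x3 k (centralizer_le_normalizer _ (centralizer_anti (le_ncl U ⊤) hk))

theorem gw' (h : NE φ) (hs : Group.IsSolvable G) (hG : 𝐂(pCore 2 G) ≤ pCore 2 G) {S U : Subgroup G}
    (hS : IsSylowIn 2 S ⊤) (hi : Iv φ S) (hU : U ≤ S) (he : IsElementaryAbelian 2 U) (hu : Iv φ U)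
    (hv : VG U S) (hJ : 𝐍(𝐉(S)) ≤ 𝐍(U)) : U.Normal := by
  induction hn : Nat.card G using Nat.strong_induction_on generalizing G with
  | _ n ih =>
  refine gw0' h hs hG hS hi hU he hu hv hJ fun H h1 h2 h3 => ?_
  have QH : pCore 2 G ≤ H :=
    (hS.le_of_le_normalizer H1.isPGroup_pCore le_top le_normalizer_of_normal).trans h1
  have h4 : (pCore 2 G).subgroupOf H ≤ pCore 2 H :=
    H1.le_pCore (isPGroup_subgroupOf H1.isPGroup_pCore H)
  have e1 := map_subgroupOf_eq_of_le h1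
  have e2 := map_subgroupOf_eq_of_le (hU.trans h1)
  have := ih _ (hn ▸ H1.card_lt_of_ne_top h3) (U := U.subgroupOf H) (h.sub h2) inferInstance
    ((centralizer_anti h4).trans (le_trans (fun g hg => hG fun q hq =>
      congrArg Subtype.val (hg ⟨q, QH hq⟩ hq)) h4))
    (hS.mono h1 le_top).subgroupOf_top (hi.subgroupOf h2) (comap_mono hU)
    ((H24.EA.map_iff H.subtype_injective).1 (e2.symm ▸ he)) (hu.subgroupOf h2)
    ((vg_map H.subtype_injective).1 (e1.symm ▸ e2.symm ▸ hv))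
    ((map_le_map_iff_of_injective H.subtype_injective).1 (by
      rw [map_subtype_normalizer, map_subtype_normalizer,
        H24.map_thompsonSubgroupOf H.subtype_injective, e1, e2]
      exact inf_le_inf_left _ hJ)) rfl
  rwa [normal_iff_le_normalizer_map, e2] at this

theorem hs_of' (h : NE φ) {S N : Subgroup G} (hS : IsSylowIn 2 S ⊤) (hi : Iv φ S)
    (hv : VG (ww S) S) (hN : Iv φ N) (hs : Group.IsSolvable N) (hSN : S ≤ N) {g : G} (hg : g ∈ N) :
    ∃ m ∈ 𝐍(ww S), ∀ p ∈ S, g * p * g⁻¹ ∈ S → g * p * g⁻¹ = m * p * m⁻¹ := by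
  let f := QuotientGroup.mk' (pPrimeCore 2 N)
  have hf : Function.Surjective f := QuotientGroup.mk'_surjective _
  have hr : (inclusion hSN).range = S.subgroupOf N := inclusion_range hSN
  have l : OF.Lf S.subtype (f.comp (inclusion hSN)) :=
    (OF.Lf.quot (inclusion_injective hSN) (hr ▸ isPGroup_subgroupOf hS.isP N) hf (by
      rw [QuotientGroup.ker_mk']; exact H1.not_dvd_card_pPrimeCore)).post N.subtype_injective
  set j := f.comp (inclusion hSN) with hj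
  have e1 : ∀ X ≤ S, (X.subgroupOf S).map j = (X.subgroupOf N).map f := fun X hX =>
    OF.tr_inc hSN hX
  have e2 : (S.subgroupOf S).map j = j.range := by
    rw [subgroupOf_self, MonoidHom.range_eq_map]
  have hW := ww_le S
  have hT := (hS.mono hSN le_top).subgroupOf_top.map f
  rw [map_top_of_surjective f hf, ← e1 S le_rfl, e2] at hT
  have e3 := map_subgroupOf_eq_of_le hW
  have n := gw' ((h.sub hN).quot (Iv.char (pPrimeCore 2 N))) inferInstance
    (H1.centralizer_pCore_le_of_isSolvable H1.pPrimeCore_quotient_pPrimeCore) hT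
    (by rw [← e2, e1 S le_rfl]; exact (hi.subgroupOf hN).map_mk _) (map_le_range j _)
    (H24.EA.map ((H24.EA.map_iff S.subtype_injective).1 (e3.symm ▸ ww_ea S)) j)
    (by rw [e1 _ hW]; exact (hi.ww.subgroupOf hN).map_mk _)
    (by
      rw [← e2, vg_map l.ij, ← vg_map S.subtype_injective, e3, map_subgroupOf_eq_of_le le_rfl]
      exact hv)
    (by
      rw [← OF.tr_J l.ij]
      exact l.norm_le' ((ww_le_ocJ S).trans (oc_le _)) (H24.thompsonSubgroupOf_le S)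
        (le_normalizer_ww S))
  obtain ⟨m, hm⟩ := l.lift (f ⟨g, hg⟩) ((j.range ^ᶜ (f ⟨g, hg⟩)⁻¹).comap j) fun x hx => by
    rwa [mem_comap, mem_cj, inv_inv] at hx
  refine ⟨m, H24.mem_normalizer_of_conj_mem fun x hx => ?_, fun p hp e => ?_⟩
  · obtain ⟨y, hy, e⟩ := n.conj_mem _ (mem_map_of_mem j (x := ⟨x, hW hx⟩) hx) (f ⟨g, hg⟩)
    exact hm ⟨x, hW hx⟩ (by rw [mem_comap, mem_cj, inv_inv, ← e]; exact ⟨y, rfl⟩) y e ▸ hy
  · have e4 : j ⟨_, e⟩ = f ⟨g, hg⟩ * j ⟨p, hp⟩ * (f ⟨g, hg⟩)⁻¹ := rfl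
    exact hm ⟨p, hp⟩ (by rw [mem_comap, mem_cj, inv_inv, ← e4]; exact ⟨_, rfl⟩) _ e4

theorem dat2 (h : NE φ) {S : Subgroup G} (hS : IsSylowIn 2 S ⊤) (hi : Iv φ S) (h1 : S ≠ ⊥)
    (hs : ∀ U ≤ S, U ≠ ⊥ → Iv φ U → Group.IsSolvable 𝐍(U)) : Dat2 φ S := by
  have hv := vg' h hS hi (hs _ (H24.thompsonSubgroupOf_le S)
    (H24.thompsonSubgroupOf_ne_bot (dvd_card_of_ne_bot hS.isP h1)) hi.J)
  exact ⟨hi, fun X x1 x2 x3 x4 g hg => hs_of' h hS hi hv x4.norm (hs X x1 x2 x4) x3 hg, hv, h.ns⟩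

end H50.NS
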